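import Cfsg.Agent.Lib.LargeAbelian.Core
import Cfsg.Agent.Lib.PComplement.GlaubermanThompson
import Cfsg.Agent.Lib.Coprime.Generation

/-!
# `N(J(P))` controls normal `p`-complements, `p ≥ 5`

* `member_le_core_of_five`: in the minimal configuration the abelian subgroups of largest order of `P`
  lie in `O_p G`
* `jAComplement`: `G` has a normal `p`-complement if `N(J(P))` has one
-/

set_option autoImplicit false

namespace Cfsg.Agent.LargeAbelian

open Subgroup PComplement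
open scoped commutatorElement

universe u

variable {G : Type u} [Group G] [Finite G] {p : ℕ} [Fact p.Prime] {P : Sylow p G}

theorem member_le_core_of_five (h : Config p P) (hp : 5 ≤ p) {A : Subgroup G}
    (hA : IsMember False p P A) : A ≤ Cfsg.pCore p G := by
  classical
  by_contra hbad
  obtain ⟨⟨hAP, hAc, -⟩, hAmax⟩ := hA
  have hprime : p.Prime := Fact.out
  set U := Cfsg.pCore p G with hU
  haveI hUn : U.Normal := PCore.pCore_normal
  have hUP : U ≤ (P : Subgroup G) := PCore.pCore_le_sylow P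
  set π := QuotientGroup.mk' U with hπ
  have hsurj : Function.Surjective π := QuotientGroup.mk'_surjective U
  have hπ1 : ∀ {x : G}, π x = 1 ↔ x ∈ U := fun {x} => QuotientGroup.eq_one_iff x
  have hUM : ∀ (M : Subgroup (G ⧸ U)) {x : G}, x ∈ U → π x ∈ M := fun M x hx => by
    rw [hπ1.mpr hx]; exact one_mem M
  -- the p'-elements modulo U
  set S : Set (G ⧸ U) := π '' {x | (orderOf x).Coprime p} with hS
  set K : Subgroup (G ⧸ U) := closure S with hK
  haveI hKc : IsMulCommutative K := isMulCommutative_closure (by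
    rintro _ ⟨x, hx, rfl⟩ _ ⟨y, hy, rfl⟩
    rw [← commutatorElement_eq_one_iff_mul_comm, ← map_commutatorElement]
    exact hπ1.mpr (h.comm x y hx hy))
  have hKmul : ∀ x ∈ K, ∀ y ∈ K, x * y = y * x := fun x hx y hy =>
    congrArg Subtype.val (hKc.is_comm.comm ⟨x, hx⟩ ⟨y, hy⟩)
  have hKord : ∀ x ∈ K, (orderOf x).Coprime p := by
    intro x hx
    induction hx using closure_induction with
    | mem x hx =>
      obtain ⟨y, hy, rfl⟩ := hx
      exact hy.coprime_dvd_left (orderOf_map_dvd π y)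
    | one => simp
    | mul x y hx hy ihx ihy =>
      exact (Nat.Coprime.mul_left ihx ihy).coprime_dvd_left
        ((show Commute x y from hKmul x hx y hy).orderOf_mul_dvd_mul_orderOf)
    | inv x _ ih => rwa [orderOf_inv]
  have hKcop : (Nat.card K).Coprime p := by
    refine (hprime.coprime_iff_not_dvd.2 fun hd => ?_).symm
    obtain ⟨x, hx⟩ := exists_prime_orderOf_dvd_card' p hd
    have h1 := hKord x x.2
    rw [orderOf_coe, hx, Nat.coprime_self] at h1
    exact hprime.one_lt.ne' h1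
  have hKn : ∀ g : G ⧸ U, g ∈ normalizer (K : Set (G ⧸ U)) := by
    intro g
    obtain ⟨g, rfl⟩ := hsurj g
    rw [mem_normalizer_iff_map_conj_eq, hK, MonoidHom.map_closure]
    congr 1
    ext y
    constructor
    · rintro ⟨_, ⟨x, hx, rfl⟩, rfl⟩
      refine ⟨g * x * g⁻¹, ?_, by simp⟩
      show (orderOf (MulAut.conj g x)).Coprime p
      rw [MulEquiv.orderOf_eq]
      exact hx
    · rintro ⟨x, hx, rfl⟩
      refine ⟨π (g⁻¹ * x * g⁻¹⁻¹), ⟨_, ?_, rfl⟩, by simp [mul_assoc]⟩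
      show (orderOf (MulAut.conj g⁻¹ x)).Coprime p
      rw [MulEquiv.orderOf_eq]
      exact hx
  -- faithful action of P
  have hfaith : ∀ x ∈ (P : Subgroup G), π x ∈ centralizer (K : Set (G ⧸ U)) → x ∈ U := by
    set N := (P : Subgroup G) ⊓ (centralizer (K : Set (G ⧸ U))).comap π with hN
    have hle : (P : Subgroup G) ≤ normalizer (N : Set G) := by
      intro g hg
      refine mem_normalizer_inf (le_normalizer hg) (mem_normalizer_fintype fun x hx => ?_)
      show π (g * x * g⁻¹) ∈ centralizer (K : Set (G ⧸ U))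
      rw [map_mul, map_mul, map_inv]
      refine (mem_normalizer_iff.mp (mem_normalizer_centralizer (g := π g) fun s hs => ?_) _).mp hx
      simpa using (mem_normalizer_iff.mp (hKn (π g)⁻¹) s).mp hs
    have hcop : ∀ x, (orderOf x).Coprime p → x ∈ normalizer (N : Set G) := by
      intro s hs
      refine mem_normalizer_fintype fun x hx => ?_
      have h1 : x⁻¹ * (s * x * s⁻¹) ∈ U := hπ1.mp (by
        have h2 : π s * π x = π x * π s := hx.2 (π s) (subset_closure ⟨s, hs, rfl⟩)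
        rw [map_mul, map_inv, map_mul, map_mul, map_inv, h2]
        group)
      have := mul_mem hx (mem_inf.2 ⟨hUP h1, mem_comap.2 (hUM _ h1)⟩ : x⁻¹ * (s * x * s⁻¹) ∈ N)
      simpa [mul_assoc] using this
    have htop : normalizer (N : Set G) = ⊤ := by
      rcases h.coatom.le_iff.1 hle with e | e
      · exact e
      exfalso
      have hGp : IsPGroup p (⊤ : Subgroup G) := isPrimePow_orderOf_of_forall fun k _ hk =>
        eq_one_of_mem_sylow (P := P) (e ▸ hcop k hk) hk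
      exact h.coatom.1 (P.3 hGp le_top).symm
    haveI : N.Normal := normalizer_eq_top_iff.1 htop
    exact fun x hx hxc => le_core_of_le_sylow N inf_le_left ⟨hx, hxc⟩
  -- a cyclic quotient of A moving K
  set Ab := A.map π with hAb
  have hAc' : ∀ x ∈ A, ∀ y ∈ A, x * y = y * x := fun x hx y hy =>
    congrArg Subtype.val (hAc.is_comm.comm ⟨x, hx⟩ ⟨y, hy⟩)
  haveI : IsMulCommutative Ab := PGroup.isMulCommutative_of_forall (by
    rintro _ ⟨x, hx, rfl⟩ _ ⟨y, hy, rfl⟩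
    rw [← map_mul, ← map_mul, hAc' x hx y hy])
  have hcopA : (Nat.card Ab).Coprime (Nat.card K) := by
    obtain ⟨k, hk⟩ := ((P.2.to_le hAP).map π).exists_card_eq
    rw [hk]
    exact (hKcop.pow_right k).symm
  obtain ⟨B, hBA, ⟨ab, hab, habB⟩, hBbad⟩ : ∃ B ≤ Ab, (∃ a ∈ Ab, B ⊔ zpowers a = Ab) ∧
      ¬ K ⊓ centralizer (B : Set (G ⧸ U)) ≤ centralizer (Ab : Set (G ⧸ U)) := by
    by_contra hall
    push Not at hall
    have hle : K ≤ centralizer (Ab : Set (G ⧸ U)) :=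
      Coprime.le_of_forall_cyclic_quotient (fun g _ => hKn g) hcopA fun B hB hc =>
        hall B hB hc
    exact hbad fun x hx => hfaith x (hAP hx) (mem_centralizer_iff.2 fun k hk =>
      (mem_centralizer_iff.1 (hle hk) _ ⟨x, hx, rfl⟩).symm)
  obtain ⟨a, ha, rfl⟩ := hab
  set K1 := K ⊓ centralizer (B : Set (G ⧸ U)) with hK1
  have haK1 : π a ∉ centralizer (K1 : Set (G ⧸ U)) := by
    intro hac
    refine hBbad fun k hk => ?_
    rw [← habB]
    refine mem_centralizer_iff.2 fun y hy => ?_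
    obtain ⟨y1, hy1, y2, hy2, rfl⟩ := (Coprime.mem_sup_iff_of_le_normalizer (fun g hg =>
      centralizer_le_normalizer _ (mem_centralizer_iff.2 fun z hz =>
        congrArg Subtype.val ((inferInstance : IsMulCommutative Ab).is_comm.comm
          ⟨z, (zpowers_le.2 (mem_map_of_mem π ha)) hz⟩ ⟨g, hBA hg⟩)))).1 hy
    · have c1 : y1 * k = k * y1 := mem_centralizer_iff.1 hk.2 y1 hy1
      have c2 : Commute k y2 := by
        obtain ⟨i, rfl⟩ := mem_zpowers_iff.1 hy2
        exact Commute.zpow_right (mem_centralizer_iff.1 hac k hk) i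
      calc y1 * y2 * k = y1 * k * y2 := by rw [mul_assoc, ← c2.eq, ← mul_assoc]
        _ = k * (y1 * y2) := by rw [c1, mul_assoc]
  have haP : a ∈ (P : Subgroup G) := hAP ha
  obtain ⟨r, hr⟩ := P.2 ⟨a, haP⟩
  have har : a ^ p ^ r = 1 := congrArg Subtype.val hr
  have hex : ∃ i, (π a) ^ p ^ i ∈ centralizer (K1 : Set (G ⧸ U)) :=
    ⟨r, by rw [← map_pow, har, map_one]; exact one_mem _⟩
  set e := Nat.find hex with he
  have he1 : 1 ≤ e := Nat.one_le_iff_ne_zero.2 fun h0 => haK1 (by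
    have := Nat.find_spec hex
    rwa [← he, h0, pow_zero, pow_one] at this)
  set b := (π a) ^ p ^ (e - 1) with hb
  have hbK1 : b ∉ centralizer (K1 : Set (G ⧸ U)) := Nat.find_min hex (show e - 1 < Nat.find hex by omega)
  have hae : (π a) ^ p ^ e ∈ centralizer (K1 : Set (G ⧸ U)) := Nat.find_spec hex
  -- the fixed point free part
  have haB : ∀ {g : G ⧸ U}, g ∈ Ab → ∀ {x}, x ∈ K1 → g * x * g⁻¹ ∈ K1 := by
    intro g hg x hx
    refine ⟨(mem_normalizer_iff.1 (hKn g) x).1 hx.1, mem_centralizer_iff.2 fun y hy => ?_⟩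
    have hgy : Commute g y :=
      congrArg Subtype.val ((inferInstance : IsMulCommutative Ab).is_comm.comm ⟨g, hg⟩ ⟨y, hBA hy⟩)
    have hxy : Commute x y := (mem_centralizer_iff.1 hx.2 y hy).symm
    exact ((hgy.mul_left hxy).mul_left hgy.inv_left).symm.eq
  have hbA : b ∈ Ab := pow_mem (mem_map_of_mem π ha) _
  have hK1mul : ∀ x ∈ K1, ∀ y ∈ K1, x * y = y * x := fun x hx y hy => hKmul x hx.1 y hy.1
  let f : ↥K1 → G ⧸ U := fun k => b * k * b⁻¹ * (k : G ⧸ U)⁻¹
  have hfK1 : ∀ k : ↥K1, f k ∈ K1 := fun k => mul_mem (haB hbA k.2) (inv_mem k.2)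
  let fh : ↥K1 →* G ⧸ U :=
    { toFun := f
      map_one' := by simp [f]
      map_mul' := fun k l => by
        simp only [f, coe_mul]
        calc b * (k * l) * b⁻¹ * ((k : G ⧸ U) * l)⁻¹
            = (b * k * b⁻¹) * ((b * l * b⁻¹ * (l : G ⧸ U)⁻¹) * (k : G ⧸ U)⁻¹) := by group
          _ = b * k * b⁻¹ * (k : G ⧸ U)⁻¹ * (b * l * b⁻¹ * (l : G ⧸ U)⁻¹) := by
              rw [hK1mul (b * l * b⁻¹ * (l : G ⧸ U)⁻¹) (hfK1 l) _ (inv_mem k.2)]; group }
  set K2 := fh.range with hK2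
  have hK21 : K2 ≤ K1 := by rintro _ ⟨k, rfl⟩; exact hfK1 k
  have hK2a : ∀ g ∈ Ab, ∀ x ∈ K2, g * x * g⁻¹ ∈ K2 := by
    rintro g hg _ ⟨k, rfl⟩
    refine ⟨⟨g * k * g⁻¹, haB hg k.2⟩, ?_⟩
    show b * (g * k * g⁻¹) * b⁻¹ * (g * (k : G ⧸ U) * g⁻¹)⁻¹ = g * (b * k * b⁻¹ * (k : G ⧸ U)⁻¹) * g⁻¹
    have hc : b * g = g * b :=
      congrArg Subtype.val ((inferInstance : IsMulCommutative Ab).is_comm.comm ⟨b, hbA⟩ ⟨g, hg⟩)
    calc b * (g * k * g⁻¹) * b⁻¹ * (g * (k : G ⧸ U) * g⁻¹)⁻¹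
        = (b * g) * k * (b * g)⁻¹ * (g * (k : G ⧸ U)⁻¹ * g⁻¹) := by group
      _ = _ := by rw [hc]; group
  have hfree : ∀ x ∈ K2, b * x * b⁻¹ = x → x = 1 := by
    rintro _ ⟨k, rfl⟩ hx
    set x := fh k with hxdef
    have hxk : b * k * b⁻¹ = x * (k : G ⧸ U) := by simp [hxdef, fh, f]
    have hi : ∀ i : ℕ, b ^ i * k * (b ^ i)⁻¹ = x ^ i * (k : G ⧸ U) := by
      intro i
      induction i with
      | zero => simp
      | succ i ih =>
        calc b ^ (i + 1) * k * (b ^ (i + 1))⁻¹ = b * (b ^ i * k * (b ^ i)⁻¹) * b⁻¹ := by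
              rw [pow_succ']; group
          _ = (b * x * b⁻¹) ^ i * (b * k * b⁻¹) := by rw [ih, conj_pow]; group
          _ = x ^ (i + 1) * k := by rw [hx, hxk, pow_succ, mul_assoc]
    have hbr : b ^ p ^ r = 1 := by
      rw [hb, ← pow_mul, mul_comm, pow_mul, ← map_pow, har, map_one, one_pow]
    have h1 := hi (p ^ r)
    rw [hbr, one_mul, inv_one, mul_one, eq_comm, mul_eq_right] at h1
    exact orderOf_eq_one_iff.1 (Nat.eq_one_of_dvd_coprimes ((hKord x (hK21 ⟨k, rfl⟩).1).pow_right r) dvd_rfl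
      (orderOf_dvd_of_pow_eq_one h1))
  have hK2ne : K2 ≠ ⊥ := by
    intro he0
    refine hbK1 (mem_centralizer_iff.2 fun k hk => ?_)
    have : fh ⟨k, hk⟩ ∈ K2 := ⟨_, rfl⟩
    rw [he0, mem_bot] at this
    exact (mul_inv_eq_iff_eq_mul.1 (mul_inv_eq_one.1 this)).symm
  -- the kernel of A on K2
  set Cb := Ab ⊓ centralizer (K2 : Set (G ⧸ U)) with hCb
  set Cp := A ⊓ (centralizer (K2 : Set (G ⧸ U))).comap π with hCp
  set Q := Cb.comap π with hQdef
  set M := (Cb ⊔ K2).comap π with hMdef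
  have hQP : Q ≤ (P : Subgroup G) := by
    intro x hx
    obtain ⟨y, hy, hxy⟩ := (hx : π x ∈ Cb).1
    have := hπ1.1 (show π (y⁻¹ * x) = 1 by rw [map_mul, map_inv, hxy, inv_mul_cancel])
    simpa using mul_mem (hAP hy) (hUP this)
  have hQM : Q ≤ M := comap_mono le_sup_left
  have hCK : Cb ≤ normalizer (K2 : Set (G ⧸ U)) := fun c hc => centralizer_le_normalizer _ hc.2
  have hsup : ∀ {x}, x ∈ Cb ⊔ K2 ↔ ∃ c ∈ Cb, ∃ k ∈ K2, c * k = x :=
    fun {x} => Coprime.mem_sup_iff_of_le_normalizer hCK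
  haveI hsupc : IsMulCommutative ↥(Cb ⊔ K2) := by
    rw [show Cb ⊔ K2 = closure ((Cb : Set (G ⧸ U)) ∪ K2) by
      rw [Subgroup.closure_union, closure_eq, closure_eq]]
    refine isMulCommutative_closure ?_
    rintro x (hx | hx) y (hy | hy)
    · exact congrArg Subtype.val ((inferInstance : IsMulCommutative Ab).is_comm.comm ⟨x, hx.1⟩ ⟨y, hy.1⟩)
    · exact (mem_centralizer_iff.1 hx.2 y hy).symm
    · exact mem_centralizer_iff.1 hy.2 x hx
    · exact hK1mul x (hK21 hx) y (hK21 hy)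
  have hsupmul : ∀ x ∈ Cb ⊔ K2, ∀ y ∈ Cb ⊔ K2, x * y = y * x := fun x hx y hy =>
    congrArg Subtype.val (hsupc.is_comm.comm ⟨x, hx⟩ ⟨y, hy⟩)
  have hMQ : M ≤ normalizer (Q : Set G) := by
    intro m hm
    refine mem_normalizer_fintype fun x hx => ?_
    show π (m * x * m⁻¹) ∈ Cb
    rw [map_mul, map_mul, map_inv, hsupmul _ hm _ (le_sup_left (b := K2) hx), mul_inv_cancel_right]
    exact hx
  have hMab : ∀ m ∈ M, ∀ m' ∈ M, ⁅m, m'⁆ ∈ Q := by
    intro m hm m' hm'
    show π ⁅m, m'⁆ ∈ Cb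
    rw [map_commutatorElement, commutatorElement_eq_one_iff_mul_comm.2 (hsupmul _ hm _ hm')]
    exact one_mem _
  have hMp : ∀ m ∈ M, ∃ n : ℕ, n.Coprime p ∧ m ^ n ∈ Q := by
    intro m hm
    refine ⟨Nat.card K2, hKcop.coprime_dvd_left (card_dvd_of_le (hK21.trans inf_le_left)), ?_⟩
    show π (m ^ Nat.card K2) ∈ Cb
    obtain ⟨c, hc, k, hk, hck⟩ := hsup.1 hm
    rw [map_pow, ← hck, (show Commute c k from (mem_centralizer_iff.1 hc.2 k hk).symm).mul_pow,
      show k ^ Nat.card K2 = 1 from congrArg Subtype.val (pow_card_eq_one' (x := (⟨k, hk⟩ : ↥K2))), mul_one]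
    exact pow_mem hc _
  have hCba : ∀ g ∈ Ab, ∀ c ∈ Cb, g * c * g⁻¹ = c := fun g hg c hc => by
    rw [show g * c = c * g from congrArg Subtype.val
      ((inferInstance : IsMulCommutative Ab).is_comm.comm ⟨g, hg⟩ ⟨c, hc.1⟩), mul_inv_cancel_right]
  have haQ : a ∈ normalizer (Q : Set G) := mem_normalizer_fintype fun x hx => by
    show π (a * x * a⁻¹) ∈ Cb
    rw [map_mul, map_mul, map_inv, hCba _ (mem_map_of_mem π ha) _ hx]
    exact hx
  have haM : a ∈ normalizer (M : Set G) := mem_normalizer_fintype fun x hx => by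
    show π (a * x * a⁻¹) ∈ Cb ⊔ K2
    obtain ⟨c, hc, k, hk, hck⟩ := hsup.1 hx
    rw [map_mul, map_mul, map_inv, ← hck,
      show π a * (c * k) * (π a)⁻¹ = (π a * c * (π a)⁻¹) * (π a * k * (π a)⁻¹) by group,
      hCba _ (mem_map_of_mem π ha) _ hc]
    exact mul_mem (le_sup_left (b := K2) hc) (le_sup_right (a := Cb) (hK2a _ (mem_map_of_mem π ha) _ hk))
  have hcomm : ∀ (g : G), π g ∈ Ab → ∀ m ∈ M, ∀ c ∈ Cb, ∀ k ∈ K2, c * k = π m →
      π ⁅g, m⁆ = π g * k * (π g)⁻¹ * k⁻¹ := by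
    intro g hg m _ c hc k hk hck
    rw [map_commutatorElement, commutatorElement_def, ← hck]
    calc π g * (c * k) * (π g)⁻¹ * (c * k)⁻¹ = (π g * c * (π g)⁻¹) * (π g * k * (π g)⁻¹ * k⁻¹) * c⁻¹ := by
          group
      _ = c * c⁻¹ * (π g * k * (π g)⁻¹ * k⁻¹) := by
          rw [hCba _ hg _ hc, mul_assoc, hsupmul _ (le_sup_right (a := Cb) (mul_mem (hK2a _ hg _ hk) (inv_mem hk)))
            _ (le_sup_left (b := K2) (inv_mem hc)), ← mul_assoc]
      _ = _ := by group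
  have haN : ∀ m ∈ M, ⁅a ^ (p ^ e), m⁆ ∈ Q := by
    intro m hm
    obtain ⟨c, hc, k, hk, hck⟩ := hsup.1 hm
    show π ⁅a ^ (p ^ e), m⁆ ∈ Cb
    rw [hcomm _ (by rw [map_pow]; exact pow_mem (mem_map_of_mem π ha) _) m hm c hc k hk hck, map_pow,
      (mem_centralizer_iff.1 hae k (hK21 hk)).symm]
    simp [mul_assoc]
  have hCK0 : ∀ x ∈ K2, x ∈ Cb → x = 1 := by
    intro x hx hxC
    exact orderOf_eq_one_iff.1 (Nat.eq_one_of_dvd_coprimes
      (hcopA.coprime_dvd_right (card_dvd_of_le (hK21.trans inf_le_left))) (Subgroup.orderOf_dvd_natCard Ab hxC.1)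
      (Subgroup.orderOf_dvd_natCard K2 hx))
  have hfree' : ∀ m ∈ M, ⁅a ^ (p ^ (e - 1)), m⁆ ∈ Q → m ∈ Q := by
    intro m hm hmQ
    obtain ⟨c, hc, k, hk, hck⟩ := hsup.1 hm
    have h1 : π ⁅a ^ (p ^ (e - 1)), m⁆ ∈ Cb := hmQ
    rw [hcomm _ (by rw [map_pow]; exact hbA) m hm c hc k hk hck, map_pow, ← hb] at h1
    have h2 := hCK0 _ (mul_mem (hK2a _ hbA _ hk) (inv_mem hk)) h1
    show π m ∈ Cb
    rw [← hck, hfree k hk (mul_inv_eq_one.1 h2), mul_one]
    exact hc
  have hcard : Nat.card A ≤ p ^ e * Nat.card ↥(A ⊓ Q) := by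
    have hsurjA : ∀ x ∈ A, ∃ i, i < p ^ e ∧ (a ^ i)⁻¹ * x ∈ A ⊓ Q := by
      intro x hx
      obtain ⟨y1, hy1, y2, hy2, hy⟩ := (Coprime.mem_sup_iff_of_le_normalizer (H := B) (N := zpowers (π a))
        (fun g hg => centralizer_le_normalizer _ (mem_centralizer_iff.2 fun z hz =>
          congrArg Subtype.val ((inferInstance : IsMulCommutative Ab).is_comm.comm
            ⟨z, (zpowers_le.2 (mem_map_of_mem π ha)) hz⟩ ⟨g, hBA hg⟩)))).1
        (habB.symm ▸ mem_map_of_mem π hx : π x ∈ B ⊔ zpowers (π a))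
      obtain ⟨j, rfl⟩ := mem_zpowers_iff.1 hy2
      have hBC : ∀ z ∈ B, z ∈ centralizer (K2 : Set (G ⧸ U)) := fun z hz => mem_centralizer_iff.2 fun k hk =>
        (mem_centralizer_iff.1 (hK21 hk).2 z hz).symm
      have hN : (0 : ℤ) < (p ^ e : ℕ) := by exact_mod_cast pow_pos hprime.pos e
      refine ⟨(j % (p ^ e : ℕ)).toNat, ?_, mem_inf.2 ⟨mul_mem (inv_mem (pow_mem ha _)) hx, ?_⟩⟩
      · have h1 := Int.emod_lt_of_pos j hN
        have h2 := Int.emod_nonneg j hN.ne'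
        omega
      · show π ((a ^ (j % (p ^ e : ℕ)).toNat)⁻¹ * x) ∈ Cb
        refine ⟨mem_map_of_mem π (mul_mem (inv_mem (pow_mem ha _)) hx), ?_⟩
        rw [map_mul, map_inv, map_pow, ← hy, ← zpow_natCast (π a), Int.toNat_of_nonneg (Int.emod_nonneg j hN.ne'),
          show ((π a) ^ (j % (p ^ e : ℕ)))⁻¹ * (y1 * (π a) ^ j) =
            y1 * (((π a) ^ (j % (p ^ e : ℕ)))⁻¹ * (π a) ^ j) by
          rw [← mul_assoc, ← mul_assoc]
          congr 1
          exact congrArg Subtype.val ((inferInstance : IsMulCommutative Ab).is_comm.comm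
            ⟨_, inv_mem (zpow_mem (mem_map_of_mem π ha) _)⟩ ⟨y1, hBA hy1⟩),
          ← zpow_neg, ← zpow_add, show -(j % (p ^ e : ℕ)) + j = ((p ^ e : ℕ) : ℤ) * (j / (p ^ e : ℕ)) by
            rw [Int.emod_def]; ring, zpow_mul, zpow_natCast]
        refine (centralizer (K2 : Set (G ⧸ U))).mul_mem (hBC y1 hy1)
          ((centralizer (K2 : Set (G ⧸ U))).zpow_mem (mem_centralizer_iff.2 fun k hk => ?_) _)
        exact mem_centralizer_iff.1 hae k (hK21 hk)
    calc Nat.card A ≤ Nat.card (Fin (p ^ e) × ↥(A ⊓ Q)) := by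
          choose i hi hx using hsurjA
          exact Nat.card_le_card_of_injective
            (fun x : A => ((⟨i x x.2, hi x x.2⟩ : Fin (p ^ e)), (⟨_, hx x x.2⟩ : ↥(A ⊓ Q))))
            fun x y hxy => by
              simp only [Prod.mk.injEq, Fin.mk.injEq, Subtype.mk.injEq] at hxy
              rw [hxy.1] at hxy
              exact Subtype.ext (mul_left_cancel hxy.2)
      _ = _ := by rw [Nat.card_prod, Nat.card_fin]
  have key := commute_of_large hp (P.2.to_le hQP) hQM hMQ hMab hMp (P.2.to_le hAP) hAc' ha haM haQ he1 haN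
    hfree' hcard fun X hX hXc => hAmax X ⟨hX.trans hQP, hXc, False.elim⟩
  -- lifting an element of K2
  apply hK2ne
  rw [eq_bot_iff]
  intro k hk
  rw [mem_bot]
  obtain ⟨g, rfl⟩ := hsurj k
  obtain ⟨s, hs, hsc, hgs⟩ := exists_rep (P.2.to_le hQP) hMp g (le_sup_right (a := Cb) hk : π g ∈ Cb ⊔ K2)
  have hs1 : s = 1 := eq_one_of_mem_sylow (P := P) (hUP (h.cent (mem_centralizer_iff.2 fun u hu =>
    (key s hs hsc u (hUM Cb hu)).symm))) hsc
  rw [hs1, mul_one] at hgs
  have h1 : π g⁻¹ ∈ Cb := hgs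
  rw [map_inv] at h1
  exact hCK0 _ hk (by simpa using inv_mem h1)

/-- `p ≥ 5`: a normal p-complement of `N(J(P))` gives one of `G`. -/
theorem jAComplement (hp : 5 ≤ p) (P : Sylow p G)
    (hJ : Cfsg.HasNormalPComplement p
      ↥(normalizer (Cfsg.thompsonSubgroupAOf (P : Subgroup G) : Set G))) :
    Cfsg.HasNormalPComplement p G := by
  refine reduction (W := jAFunctor) False (fun _ _ => True) isCharPFunctor_jA
    (fun _ _ _ _ _ => trivial) (fun _ _ _ _ _ _ => trivial)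
    (fun G _ _ P _ hc _ _ => ?_) G trivial P ⟨hJ, False.elim⟩
  exact jA_normal_of_le fun A hA => member_le_core_of_five hc hp hA

end Cfsg.Agent.LargeAbelian
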