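import Cfsg.Agent.Lib.LargeAbelian.Trace
import Cfsg.Agent.Lib.Coprime.Commutator
import Cfsg.Agent.Lib.Coprime.Basic
import Cfsg.Agent.Lib.PGroup.Frattini

/-!
# Abelian subgroups of largest order and coprime operators, `p ≥ 5`

`commute_of_large`: `Q` is a `p`-group normal in `M`, `M / Q` is an abelian `p'`-group normalised by
`a ∈ A`, `A` abelian of order at most `p ^ e |A ∩ Q|`, `a ^ (p ^ e)` is trivial and
`a ^ (p ^ (e - 1))` is fixed point free on `M / Q`. If no abelian subgroup of `Q` is larger than `A`,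
the `p'`-elements of `M` centralise `Q`.
-/

set_option autoImplicit false

namespace Cfsg.Agent.LargeAbelian

open Subgroup
open scoped commutatorElement

universe u

variable {G : Type u} [Group G] [Finite G] {p : ℕ}

omit [Finite G] in
theorem mem_normalizer_commutator {H K : Subgroup G} {g : G} (hH : g ∈ normalizer (H : Set G))
    (hK : g ∈ normalizer (K : Set G)) : g ∈ normalizer ((⁅H, K⁆ : Subgroup G) : Set G) := by
  rw [mem_normalizer_iff_map_conj_eq] at *
  rw [Subgroup.map_commutator, hH, hK]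

theorem two_add_three_le_pow (hp : 5 ≤ p) : ∀ e, 1 ≤ e → 2 * e + 3 ≤ p ^ e := by
  intro e he
  induction he with
  | refl => rw [pow_one]; omega
  | @step k hk ih =>
    rw [pow_succ]
    calc 2 * (k + 1) + 3 ≤ (2 * k + 3) * 5 := by omega
      _ ≤ p ^ k * p := Nat.mul_le_mul ih hp

omit [Finite G] in
theorem mem_normalizer_inf {H K : Subgroup G} {g : G} (h1 : g ∈ normalizer (H : Set G))
    (h2 : g ∈ normalizer (K : Set G)) : g ∈ normalizer ((H ⊓ K : Subgroup G) : Set G) := by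
  rw [mem_normalizer_iff] at *
  exact fun x => ⟨fun h => ⟨(h1 x).1 h.1, (h2 x).1 h.2⟩, fun h => ⟨(h1 x).2 h.1, (h2 x).2 h.2⟩⟩

theorem mem_normalizer_centralizer {S : Set G} {g : G} (h : ∀ s ∈ S, g⁻¹ * s * g ∈ S) :
    g ∈ normalizer (centralizer S : Set G) := by
  refine mem_normalizer_fintype fun c hc => mem_centralizer_iff.mpr fun s hs => ?_
  have := mem_centralizer_iff.mp hc _ (h s hs)
  calc s * (g * c * g⁻¹) = g * (g⁻¹ * s * g * c) * g⁻¹ := by group
    _ = g * c * g⁻¹ * s := by rw [this]; group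

/-- Commutation with `a`. -/
def comm (a x : G) : G := a * x * a⁻¹ * x⁻¹

theorem iterate_comm_mem {a : G} {W : Subgroup G} (haW : a ∈ normalizer (W : Set G)) :
    ∀ (j : ℕ) {x : G}, x ∈ W → (comm a)^[j] x ∈ W := by
  intro j
  induction j with
  | zero => exact fun h => h
  | succ j ih =>
    intro x hx
    rw [Function.iterate_succ_apply']
    exact mul_mem ((mem_normalizer_iff.mp haW _).mp (ih hx)) (inv_mem (ih hx))

/-- If `|A₀ T₁| ≤ p ^ e |A₀|` and `a` centralises `A₀`, the `(e + 1)`-fold commutators of `T₁` with the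
`p`-element `a` are trivial. -/
theorem iterate_comm_eq_one [Fact p.Prime] {Q A0 T1 : Subgroup G} (hQ : IsPGroup p Q) {a : G}
    (hap : IsPGroup p (zpowers a)) (haQ : a ∈ normalizer (Q : Set G)) (hHQ : A0 ⊔ T1 ≤ Q)
    (hab : IsMulCommutative ↥(A0 ⊔ T1)) (haA : ∀ x ∈ A0, a * x = x * a)
    (haT : a ∈ normalizer (T1 : Set G)) {e : ℕ}
    (hcard : Nat.card ↥(A0 ⊔ T1) ≤ p ^ e * Nat.card A0) :
    ∀ t ∈ T1, ∀ j, e + 1 ≤ j → (comm a)^[j] t = 1 := by
  intro t ht j hj
  set H := A0 ⊔ T1 with hH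
  let _ : CommGroup ↥H := { (inferInstance : Group ↥H) with mul_comm := hab.is_comm.comm }
  have haH : a ∈ normalizer (H : Set G) := by
    rw [mem_normalizer_iff_map_conj_eq, hH, Subgroup.map_sup]
    refine congrArg₂ (· ⊔ ·) ?_ (mem_normalizer_iff_map_conj_eq.mp haT)
    refine mem_normalizer_iff_map_conj_eq.mp (mem_normalizer_fintype fun x hx => ?_)
    rw [haA x hx, mul_inv_cancel_right]
    exact hx
  let cH : ↥H →* ↥H :=
    { toFun := fun x => ⟨a * x * a⁻¹, (mem_normalizer_iff.mp haH _).mp x.2⟩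
      map_one' := Subtype.ext (by simp)
      map_mul' := fun u w => Subtype.ext (by simp [mul_assoc]) }
  set D : Module.End ℤ (Additive ↥H) := (MonoidHom.toAdditive cH).toIntLinearMap - 1
  let F : AddSubgroup (Additive ↥H) := Subgroup.toAddSubgroup (A0.subgroupOf H)
  have hF : ∀ f ∈ F, D f = 0 := fun f hf => by
    have hf' : ((Additive.toMul f : ↥H) : G) ∈ A0 := hf
    refine Additive.toMul.injective (Subtype.ext ?_)
    show a * (Additive.toMul f : ↥H) * a⁻¹ / ((Additive.toMul f : ↥H) : G) = 1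
    rw [haA _ hf', mul_inv_cancel_right, div_self']
  have hpowD : ∀ (i : ℕ) (x : ↥H),
      ((Additive.toMul ((D ^ i) (Additive.ofMul x)) : ↥H) : G) = (comm a)^[i] x := by
    intro i
    induction i with
    | zero => exact fun x => rfl
    | succ i ih =>
      intro x
      rw [pow_succ', Module.End.mul_apply, Function.iterate_succ_apply', ← ih]
      exact div_eq_mul_inv _ _
  have hnilH : ∃ i, (D ^ i) (Additive.ofMul (⟨t, mem_sup_right ht⟩ : ↥H)) = 0 := by
    let S : Subgroup G := zpowers a ⊔ Q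
    haveI : Group.IsNilpotent S := (hap.to_sup_of_normal_right' hQ (zpowers_le.mpr haQ)).isNilpotent
    obtain ⟨i, hi⟩ := Subgroup.nilpotent_iff_lowerCentralSeries.1 this
    have hi' : S.lowerCentralSeries i = ⊥ := by
      rw [← Subgroup.top_subtype_lowerCentralSeries, hi, Subgroup.map_bot]
    have hmem : ∀ l, (comm a)^[l] t ∈ S.lowerCentralSeries l := by
      intro l
      induction l with
      | zero => exact mem_sup_right (hHQ (mem_sup_right ht))
      | succ l ih =>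
        rw [Function.iterate_succ_apply']
        have h' := inv_mem (commutator_mem_commutator ih (mem_sup_left (mem_zpowers a) : a ∈ S))
        rw [commutatorElement_inv] at h'
        exact h'
    refine ⟨i, Additive.toMul.injective (Subtype.ext ?_)⟩
    rw [hpowD]
    have := hmem i
    rwa [hi', mem_bot] at this
  obtain ⟨r, hr⟩ := (hQ.to_le hHQ).exists_card_eq
  have hcard' : Nat.card (Additive ↥H) ≤ p ^ e * Nat.card F :=
    hcard.trans (le_of_eq (congrArg (p ^ e * ·)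
      (Nat.card_congr (subgroupOfEquivOfLe (le_sup_left : A0 ≤ H)).toEquiv).symm))
  have h1 := iterate_mem_of_card_le (X := Additive ↥H) (p := p) ⟨r, hr⟩ D F hF hcard' hnilH
  have h4 := hpowD j ⟨t, mem_sup_right ht⟩
  rw [show j = (j - (e + 1)) + 1 + e by omega, pow_add, Module.End.mul_apply, pow_succ,
    Module.End.mul_apply, hF _ h1, map_zero, show (j - (e + 1)) + 1 + e = j by omega] at h4
  exact h4.symm

/-- The layer `W / T` on which the `p'`-elements of `M` act without fixed points. -/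
structure Layer (p : ℕ) (Q M : Subgroup G) (a : G) (W T : Subgroup G) : Prop where
  WQ : W ≤ Q
  MW : M ≤ normalizer (W : Set G)
  aW : a ∈ normalizer (W : Set G)
  MT : M ≤ normalizer (T : Set G)
  aT : a ∈ normalizer (T : Set G)
  TW : T ≤ W
  ne : T ≠ W
  cQ : ⁅W, Q⁆ ≤ T
  central : ∀ w ∈ W, ∀ t ∈ T, Commute w t
  pow : ∀ w ∈ W, w ^ p ∈ T
  sp : ∀ t ∈ T, ∀ s ∈ M, (orderOf s).Coprime p → Commute s t
  fix : ∀ w ∈ W, (∀ s ∈ M, (orderOf s).Coprime p → s * w * s⁻¹ * w⁻¹ ∈ T) → w ∈ T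

theorem exists_rep [Fact p.Prime] {Q M : Subgroup G} (hQ : IsPGroup p Q)
    (hMp : ∀ m ∈ M, ∃ n : ℕ, n.Coprime p ∧ m ^ n ∈ Q) :
    ∀ x ∈ M, ∃ s ∈ M, (orderOf s).Coprime p ∧ x⁻¹ * s ∈ Q := by
  have hprime : p.Prime := Fact.out
  obtain ⟨k, hk⟩ := hQ.exists_card_eq
  intro x hx
  obtain ⟨n, hn, hxn⟩ := hMp x hx
  rcases lt_trichotomy n 1 with h0 | rfl | h1
  · obtain rfl : n = 0 := by omega
    exact absurd (Nat.coprime_zero_left p |>.mp hn) hprime.one_lt.ne'
  · exact ⟨1, one_mem M, by simp, by simpa using hxn⟩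
  · obtain ⟨j, -, hj⟩ := Nat.exists_mul_mod_eq_one_of_coprime ((hn.symm).pow_left k) h1
    refine ⟨x ^ (p ^ k * j), pow_mem hx _, ?_, ?_⟩
    · refine Nat.Coprime.coprime_dvd_left (orderOf_dvd_of_pow_eq_one ?_) hn
      rw [← pow_mul, mul_comm, pow_mul, pow_mul,
        show (x ^ n) ^ (p ^ k) = 1 from hk ▸ congrArg Subtype.val (pow_card_eq_one' (x := (⟨_, hxn⟩ : Q))),
        one_pow]
    · rw [← Nat.mod_add_div (p ^ k * j) n, hj, pow_add, pow_one, inv_mul_cancel_left, pow_mul]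
      exact pow_mem hxn _

theorem exists_layer [Fact p.Prime] {Q M : Subgroup G} (hQ : IsPGroup p Q) (hQM : Q ≤ M)
    (hMQ : M ≤ normalizer (Q : Set G)) {a : G} (haM : a ∈ normalizer (M : Set G))
    (haQ : a ∈ normalizer (Q : Set G)) {m q : G} (hm : m ∈ M) (hmc : (orderOf m).Coprime p) (hq : q ∈ Q)
    (hcon : m * q ≠ q * m) : ∃ W T, Layer p Q M a W T := by
  classical
  have hprime : p.Prime := Fact.out
  set Sp : Set G := {m | m ∈ M ∧ (orderOf m).Coprime p} with hSp
  obtain ⟨k, hk⟩ := hQ.exists_card_eq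
  obtain ⟨W, ⟨hWQ, hMW, haW, hWne⟩, hWmin⟩ := Set.exists_min_image
    {W : Subgroup G | W ≤ Q ∧ M ≤ normalizer (W : Set G) ∧ a ∈ normalizer (W : Set G) ∧
      ¬ W ≤ centralizer Sp} (fun W => Nat.card W) (Set.toFinite _)
    ⟨Q, le_rfl, hMQ, haQ, fun h => hcon (mem_centralizer_iff.mp (h hq) m ⟨hm, hmc⟩)⟩
  have hinv : ∀ H : Subgroup G, H ≤ W → M ≤ normalizer (H : Set G) → a ∈ normalizer (H : Set G) →
      H ≠ W → H ≤ centralizer Sp := by
    intro H hH h1 h2 hne
    by_contra h3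
    exact hne (eq_of_le_of_card_ge hH (hWmin H ⟨hH.trans hWQ, h1, h2, h3⟩))
  have hcalc : ∀ s ∈ Sp, ∀ z ∈ Q, Commute s z → ∀ w, s * w * s⁻¹ = z * w → z = 1 := by
    intro s hs z hz hsz w hw
    have hi : ∀ i : ℕ, s ^ i * w * (s ^ i)⁻¹ = z ^ i * w := by
      intro i
      induction i with
      | zero => simp
      | succ i ih =>
        calc s ^ (i + 1) * w * (s ^ (i + 1))⁻¹ = s * (s ^ i * w * (s ^ i)⁻¹) * s⁻¹ := by
              rw [pow_succ']; group
          _ = z ^ i * (s * w * s⁻¹) := by rw [ih, ← mul_assoc, (hsz.pow_right i).eq]; simp only [mul_assoc]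
          _ = z ^ (i + 1) * w := by rw [hw, pow_succ, mul_assoc]
    have := hi (orderOf s)
    rw [pow_orderOf_eq_one, one_mul, inv_one, mul_one, eq_comm, mul_eq_right] at this
    have h2 : z ^ p ^ k = 1 := hk ▸ congrArg Subtype.val (pow_card_eq_one' (x := (⟨z, hz⟩ : Q)))
    exact orderOf_eq_one_iff.mp (Nat.eq_one_of_dvd_coprimes (hs.2.pow_right k)
      (orderOf_dvd_of_pow_eq_one this) (orderOf_dvd_of_pow_eq_one h2))
  have hNSp : ∀ g ∈ normalizer (M : Set G), g ∈ normalizer (centralizer Sp : Set G) := fun g hg =>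
    mem_normalizer_centralizer fun s hs => ⟨by simpa using (mem_normalizer_iff.mp (inv_mem hg) s).mp hs.1, by
      rw [show g⁻¹ * s * g = MulAut.conj g⁻¹ s by simp, MulEquiv.orderOf_eq]
      exact hs.2⟩
  have hinf : ∀ (H K : Subgroup G) (g : G), g ∈ normalizer (H : Set G) → g ∈ normalizer (K : Set G) →
      g ∈ normalizer ((H ⊓ K : Subgroup G) : Set G) := fun H K g h1 h2 => mem_normalizer_inf h1 h2
  set T := W ⊓ centralizer Sp with hT
  have hTne : T ≠ W := fun h => hWne (inf_eq_left.mp h)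
  have hMT : M ≤ normalizer (T : Set G) := fun g hg => hinf _ _ g (hMW hg) (hNSp g (le_normalizer hg))
  have haT : a ∈ normalizer (T : Set G) := hinf _ _ a haW (hNSp a haM)
  have hWnorm : W ≠ ⊥ := fun h => hWne (h ▸ bot_le)
  have hWp : IsPGroup p W := hQ.to_le hWQ
  have hclt : ⁅W, Q⁆ < W := Coprime.commutator_lt_of_isPGroup hQ hWp (hQM.trans hMW) hWnorm
  have hcT : ⁅W, Q⁆ ≤ T := le_inf hclt.le (hinv _ hclt.le
    (fun g hg => mem_normalizer_commutator (hMW hg) (hMQ hg)) (mem_normalizer_commutator haW haQ) hclt.ne)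
  -- T is central in W
  have hWT : ∀ w ∈ W, ∀ t ∈ T, Commute w t := by
    intro w hw t ht
    have hC : W ⊓ centralizer (T : Set G) = W := by
      by_contra hne
      have hle := hinv _ inf_le_left
        (fun g hg => hinf _ _ g (hMW hg) (mem_normalizer_fintype fun c hc => by
          refine mem_centralizer_iff.mpr fun y hy => ?_
          have h1 := mem_centralizer_iff.mp hc _ ((mem_normalizer_iff.mp (inv_mem (hMT hg)) y).mp hy)
          calc y * (g * c * g⁻¹) = g * (g⁻¹ * y * g⁻¹⁻¹ * c) * g⁻¹ := by group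
            _ = g * c * g⁻¹ * y := by rw [h1]; group))
        (hinf _ _ a haW (mem_normalizer_fintype fun c hc => by
          refine mem_centralizer_iff.mpr fun y hy => ?_
          have h1 := mem_centralizer_iff.mp hc _ ((mem_normalizer_iff.mp (inv_mem haT) y).mp hy)
          calc y * (a * c * a⁻¹) = a * (a⁻¹ * y * a⁻¹⁻¹ * c) * a⁻¹ := by group
            _ = a * c * a⁻¹ * y := by rw [h1]; group)) hne
      refine hWne fun u hu => mem_centralizer_iff.mpr fun s hs => ?_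
      set z := s * u * s⁻¹ * u⁻¹ with hz
      have hzW : z ∈ W := mul_mem ((mem_normalizer_iff.mp (hMW hs.1) u).mp hu) (inv_mem hu)
      have hzC : z ∈ centralizer (T : Set G) := by
        refine mem_centralizer_iff.mpr fun y hy => ?_
        -- s fixes T pointwise, so s u s⁻¹ and u act alike on T
        have hu' : u⁻¹ * y * u⁻¹⁻¹ ∈ T :=
          (mem_normalizer_iff.mp (inv_mem (hMT (hQM (hWQ hu)))) y).mp hy
        have h1 := mem_centralizer_iff.mp hy.2 s hs
        have h2 := mem_centralizer_iff.mp hu'.2 s hs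
        have h3 : (s * u * s⁻¹) * (u⁻¹ * y * u⁻¹⁻¹) * (s * u * s⁻¹)⁻¹ = y := by
          calc _ = s * (u * ((s⁻¹ * ((u⁻¹ * y * u⁻¹⁻¹) * s)) * u⁻¹)) * s⁻¹ := by group
            _ = s * y * s⁻¹ := by rw [← h2]; group
            _ = y := by rw [h1]; group
        calc y * z = z * (z⁻¹ * y * z) := by group
          _ = z * y := by
            congr 1
            conv_lhs => rw [← h3]
            rw [hz]; group
      have hzS : z ∈ centralizer Sp := hle ⟨hzW, hzC⟩
      have := hcalc s hs z (hWQ hzW) (mem_centralizer_iff.mp hzS s hs) u (by rw [hz]; group)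
      exact mul_inv_eq_iff_eq_mul.mp (mul_inv_eq_one.mp (hz ▸ this))
    exact (mem_centralizer_iff.mp (hC.symm ▸ hw : w ∈ W ⊓ centralizer (T : Set G)).2 t ht).symm
  -- p-th powers are in T
  have hpow : ∀ w ∈ W, w ^ p ∈ T := by
    set S : Set G := {x | ∃ w ∈ W, x = w ^ p} ∪ (⁅W, Q⁆ : Subgroup G) with hS
    have hSW : closure S ≤ W := (closure_le _).mpr
      (Set.union_subset (fun x ⟨w, hw, e⟩ => e ▸ pow_mem hw p) hclt.le)
    have hnorm : ∀ g ∈ normalizer (W : Set G), g ∈ normalizer (Q : Set G) →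
        g ∈ normalizer (closure S : Set G) := by
      intro g hgW hgQ
      refine mem_normalizer_fintype fun x hx => ?_
      have : closure S ≤ (closure S).comap (MulAut.conj g).toMonoidHom := (closure_le _).mpr fun y hy => by
        rcases hy with ⟨w, hw, rfl⟩ | hy
        · exact subset_closure (Or.inl ⟨g * w * g⁻¹, (mem_normalizer_iff.mp hgW w).mp hw, conj_pow.symm⟩)
        · exact subset_closure (Or.inr ((mem_normalizer_iff.mp (mem_normalizer_commutator hgW hgQ) y).mp hy))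
      exact this hx
    have hne : closure S ≠ W := by
      intro h
      refine hclt.ne (le_antisymm hclt.le fun w hw => ?_)
      have h1 : ((⁅W, Q⁆ : Subgroup G).subgroupOf W : Set ↥W) = _ := rfl
      have htop : closure (((⁅W, Q⁆ : Subgroup G).subgroupOf W : Set ↥W)) ⊔ frattini ↥W = ⊤ := by
        rw [eq_top_iff]
        intro x _
        have hx : (x : G) ∈ closure S := h.symm ▸ x.2
        have hle : closure S ≤
            (closure (((⁅W, Q⁆ : Subgroup G).subgroupOf W : Set ↥W)) ⊔ frattini ↥W).map W.subtype := by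
          refine (closure_le _).mpr fun y hy => ?_
          rcases hy with ⟨u, hu, rfl⟩ | hy
          · exact ⟨⟨u, hu⟩ ^ p, mem_sup_right (PGroup.pow_mem_frattini hWp _), rfl⟩
          · exact ⟨⟨y, hclt.le hy⟩, mem_sup_left (subset_closure hy), rfl⟩
        obtain ⟨x', hx', e'⟩ := hle hx
        rwa [← Subtype.ext e']
      have := PGroup.closure_eq_top_of_sup_frattini htop
      rw [closure_eq] at this
      exact (this ▸ mem_top (⟨w, hw⟩ : ↥W) : (⟨w, hw⟩ : ↥W) ∈ (⁅W, Q⁆ : Subgroup G).subgroupOf W)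
    intro w hw
    exact ⟨pow_mem hw p, hinv _ hSW (fun g hg => hnorm g (hMW hg) (hMQ hg)) (hnorm a haW haQ) hne
      (subset_closure (Or.inl ⟨w, hw, rfl⟩))⟩
  refine ⟨W, T, hWQ, hMW, haW, hMT, haT, inf_le_left, hTne, hcT, hWT, hpow,
    fun t ht s hs hsc => mem_centralizer_iff.mp ht.2 s ⟨hs, hsc⟩, fun w hw hfix => ⟨hw, ?_⟩⟩
  refine mem_centralizer_iff.mpr fun s hs => ?_
  have hz := hfix s hs.1 hs.2
  have := hcalc s hs _ (hWQ hz.1) (mem_centralizer_iff.mp hz.2 s hs) w (by group)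
  exact mul_inv_eq_iff_eq_mul.mp (mul_inv_eq_one.mp this)

theorem exists_vector [Fact p.Prime] (hp : 5 ≤ p) {Q M : Subgroup G} (hQ : IsPGroup p Q) (hQM : Q ≤ M)
    (hMQ : M ≤ normalizer (Q : Set G)) (hMab : ∀ m ∈ M, ∀ m' ∈ M, ⁅m, m'⁆ ∈ Q)
    (hMp : ∀ m ∈ M, ∃ n : ℕ, n.Coprime p ∧ m ^ n ∈ Q) {a : G} {r : ℕ} (har : a ^ p ^ r = 1)
    (haM : a ∈ normalizer (M : Set G)) (haQ : a ∈ normalizer (Q : Set G)) {e : ℕ} (he : 1 ≤ e)
    (haN : ∀ m ∈ M, ⁅a ^ (p ^ e), m⁆ ∈ Q) (hfree : ∀ m ∈ M, ⁅a ^ (p ^ (e - 1)), m⁆ ∈ Q → m ∈ Q)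
    {W T : Subgroup G} (hL : Layer p Q M a W T) :
    ∃ w' ∈ W, (∀ i j, Commute ((comm a)^[i] w') ((comm a)^[j] w')) ∧
      ∀ H : Subgroup G, (∀ g ∈ H, g ∈ W → comm a g ∈ T) →
        p ^ (e + 1) ≤ H.relIndex (closure {x | ∃ j, p ^ e - (e + 2) ≤ j ∧ x = (comm a)^[j] w'}) := by
  classical
  have hprime : p.Prime := Fact.out
  obtain ⟨hWQ, hMW, haW, hMT, haT, hTW, hTne, hcT, hWT, hpow, hspT, hfixT⟩ := hL
  have hcomm : ∀ u ∈ W, ∀ w ∈ W, ⁅u, w⁆ ∈ T := fun u hu w hw =>
    hcT (commutator_mem_commutator hu (hWQ hw))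
  haveI hTn : (T.subgroupOf W).Normal :=
    normal_subgroupOf_of_le_normalizer (hWQ.trans (hQM.trans hMT))
  let _ : CommGroup (↥W ⧸ T.subgroupOf W) :=
    { (inferInstance : Group (↥W ⧸ T.subgroupOf W)) with
      mul_comm := fun x y => QuotientGroup.induction_on x fun u => QuotientGroup.induction_on y fun w => by
        rw [← QuotientGroup.mk_mul, ← QuotientGroup.mk_mul, QuotientGroup.eq, mem_subgroupOf]
        have := hcomm _ (inv_mem w.2) _ (inv_mem u.2)
        simpa [commutatorElement_def, mul_assoc] using this }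
  let X := Additive (↥W ⧸ T.subgroupOf W)
  let π : ↥W → X := fun w => Additive.ofMul (w : ↥W ⧸ T.subgroupOf W)
  have hπsurj : Function.Surjective π := fun x => by
    obtain ⟨w, hw⟩ := QuotientGroup.mk_surjective (Additive.toMul x)
    exact ⟨w, congrArg Additive.ofMul hw⟩
  have hπeq : ∀ u w : ↥W, π u = π w ↔ (u : G)⁻¹ * w ∈ T := fun u w =>
    (Additive.ofMul.injective.eq_iff).trans (QuotientGroup.eq.trans mem_subgroupOf)
  have hπmul : ∀ u w : ↥W, π (u * w) = π u + π w := fun u w => rfl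
  have hXp : ∀ x : X, p • x = 0 := fun x => by
    obtain ⟨w, rfl⟩ := hπsurj x
    exact (congrArg Additive.ofMul
      ((QuotientGroup.eq_one_iff (w ^ p)).mpr (mem_subgroupOf.mpr (by simpa using hpow w w.2))) :)
  let Nw : Subgroup G := normalizer (W : Set G) ⊓ normalizer (T : Set G)
  let cW : ↥Nw → (↥W →* ↥W) := fun g =>
    { toFun := fun w => ⟨(g : G) * w * (g : G)⁻¹, (mem_normalizer_iff.mp g.2.1 _).mp w.2⟩
      map_one' := Subtype.ext (by simp)
      map_mul' := fun u w => Subtype.ext (by simp [mul_assoc]) }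
  let act : ↥Nw →* Module.End ℤ X :=
    { toFun := fun g => (MonoidHom.toAdditive (QuotientGroup.map (T.subgroupOf W) (T.subgroupOf W) (cW g)
        fun w hw => Subgroup.mem_comap.mpr (mem_subgroupOf.mpr
          ((mem_normalizer_iff.mp g.2.2 _).mp (mem_subgroupOf.mp hw))))
          ).toIntLinearMap
      map_one' := LinearMap.ext fun x => by
        obtain ⟨w, rfl⟩ := hπsurj x
        show π (cW 1 w) = π w
        exact congrArg π (Subtype.ext (by simp [cW]))
      map_mul' := fun g h => LinearMap.ext fun x => by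
        obtain ⟨w, rfl⟩ := hπsurj x
        show π (cW (g * h) w) = π (cW g (cW h w))
        exact congrArg π (Subtype.ext (by simp [cW, mul_assoc])) }
  have hact : ∀ (g : ↥Nw) (w : ↥W), act g (π w) = π (cW g w) := fun g w => rfl
  have hMN : M ≤ Nw := le_inf hMW hMT
  haveI hQn : (Q.subgroupOf M).Normal := normal_subgroupOf_of_le_normalizer hMQ
  let _ : CommGroup (↥M ⧸ Q.subgroupOf M) :=
    { (inferInstance : Group (↥M ⧸ Q.subgroupOf M)) with
      mul_comm := fun x y => QuotientGroup.induction_on x fun u => QuotientGroup.induction_on y fun w => by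
        rw [← QuotientGroup.mk_mul, ← QuotientGroup.mk_mul, QuotientGroup.eq, mem_subgroupOf]
        have := hMab _ (inv_mem w.2) _ (inv_mem u.2)
        simpa [commutatorElement_def, mul_assoc] using this }
  let ρ : (↥M ⧸ Q.subgroupOf M) →* Module.End ℤ X := QuotientGroup.lift (Q.subgroupOf M)
    (act.comp (inclusion hMN)) fun q hq => LinearMap.ext fun x => by
      obtain ⟨w, rfl⟩ := hπsurj x
      refine Eq.symm ((hπeq _ _).mpr ?_)
      show (w : G)⁻¹ * ((q : G) * w * (q : G)⁻¹) ∈ T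
      have := hcT (commutator_mem_commutator (inv_mem w.2) (mem_subgroupOf.mp hq))
      simpa [commutatorElement_def, mul_assoc] using this
  have haNw : a ∈ Nw := ⟨haW, haT⟩
  set α : Module.End ℤ X := act ⟨a, haNw⟩ with hαdef
  let aM : MulAut ↥M :=
    { toFun := fun m => ⟨a * m * a⁻¹, (mem_normalizer_iff.mp haM _).mp m.2⟩
      invFun := fun m => ⟨a⁻¹ * m * a⁻¹⁻¹, (mem_normalizer_iff.mp (inv_mem haM) _).mp m.2⟩
      left_inv := fun m => Subtype.ext (by simp [mul_assoc])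
      right_inv := fun m => Subtype.ext (by simp [mul_assoc])
      map_mul' := fun m n => Subtype.ext (by simp [mul_assoc]) }
  let σ : MulAut (↥M ⧸ Q.subgroupOf M) := QuotientGroup.congr (Q.subgroupOf M) (Q.subgroupOf M) aM (by
    ext x
    constructor
    · rintro ⟨y, hy, rfl⟩
      exact mem_subgroupOf.mpr ((mem_normalizer_iff.mp haQ _).mp (mem_subgroupOf.mp hy))
    · intro hx
      exact ⟨aM.symm x, mem_subgroupOf.mpr ((mem_normalizer_iff.mp (inv_mem haQ) _).mp
        (mem_subgroupOf.mp hx)), aM.apply_symm_apply x⟩)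
  have hσi : ∀ (i : ℕ) (m : ↥M), (⇑σ)^[i] (m : ↥M ⧸ Q.subgroupOf M) =
      ((⟨a ^ i * m * (a ^ i)⁻¹, (mem_normalizer_iff.mp (pow_mem haM i) _).mp m.2⟩ : ↥M) :
        ↥M ⧸ Q.subgroupOf M) := by
    intro i
    induction i with
    | zero => intro m; simp
    | succ i ih =>
      intro m
      rw [Function.iterate_succ_apply', ih]
      show ((aM _ : ↥M) : ↥M ⧸ Q.subgroupOf M) = _
      exact congrArg QuotientGroup.mk (Subtype.ext (by simp [aM, pow_succ', mul_assoc]))
  have hσρ : ∀ x, α * ρ x = ρ (σ x) * α := fun x => QuotientGroup.induction_on x fun m => by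
    show act ⟨a, haNw⟩ * act (inclusion hMN m) = act (inclusion hMN (aM m)) * act ⟨a, haNw⟩
    rw [← map_mul, ← map_mul]
    exact congrArg act (Subtype.ext (by simp [aM, mul_assoc]))
  have hmk : ∀ (m n : ↥M), ((n : ↥M ⧸ Q.subgroupOf M) = m) ↔ (n : G)⁻¹ * m ∈ Q := fun m n =>
    QuotientGroup.eq.trans mem_subgroupOf
  have hσN : ∀ x, (⇑σ)^[p ^ e] x = x := fun x => QuotientGroup.induction_on x fun m => by
    rw [hσi, hmk]
    have := inv_mem ((mem_normalizer_iff.mp (hMQ (inv_mem m.2)) _).mp (haN m m.2))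
    simpa [commutatorElement_def, mul_assoc] using this
  have hσfree : ∀ x, (⇑σ)^[p ^ (e - 1)] x = x → x = 1 := fun x => QuotientGroup.induction_on x fun m h => by
    rw [hσi, eq_comm, hmk] at h
    refine (QuotientGroup.eq_one_iff m).mpr (mem_subgroupOf.mpr (hfree m m.2 ?_))
    have := (mem_normalizer_iff.mp (hMQ m.2) _).mp h
    simpa [commutatorElement_def, mul_assoc] using this
  have hρfix : ∀ x : X, (∀ k, ρ k x = x) → x = 0 := by
    intro x hx
    obtain ⟨w, rfl⟩ := hπsurj x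
    refine ((hπeq 1 w).mpr ?_).symm
    simp only [OneMemClass.coe_one, inv_one, one_mul]
    refine hfixT w w.2 fun s hs hsc => ?_
    have h1 : (w : G)⁻¹ * (s * w * s⁻¹) ∈ T := (hπeq _ _).mp (hx ((⟨s, hs⟩ : ↥M) : ↥M ⧸ _)).symm
    have := (mem_normalizer_iff.mp (hMT (hQM (hWQ w.2))) _).mp h1
    simpa [mul_assoc] using this
  -- a fixed vector
  have hαr : α ^ p ^ r = 1 := by
    rw [hαdef, ← map_pow, show (⟨a, haNw⟩ : ↥Nw) ^ p ^ r = 1 from Subtype.ext har, map_one]
  have hnil : (α - 1) ^ p ^ r = 0 := by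
    obtain ⟨N', hN'⟩ : ∃ N', p ^ r = N' + 1 := Nat.exists_eq_succ_of_ne_zero (pow_ne_zero r hprime.ne_zero)
    have := mul_geom_sum α (p ^ r)
    rw [← sub_one_pow_pred hXp, hαr, sub_self, ← pow_succ', hN', Nat.add_sub_cancel] at this
    rw [hN']; exact this
  obtain ⟨v, hv0, hvα⟩ : ∃ v : X, v ≠ 0 ∧ α v = v := by
    obtain ⟨x, hx⟩ : ∃ x : X, x ≠ 0 := by
      by_contra hall
      push Not at hall
      apply hTne
      refine le_antisymm hTW fun w hw => ?_
      simpa using (hπeq 1 ⟨w, hw⟩).mp ((hall _).trans (hall _).symm)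
    have hex : ∃ j, ((α - 1) ^ j : Module.End ℤ X) x = 0 := ⟨p ^ r, by rw [hnil, LinearMap.zero_apply]⟩
    have hj0 : Nat.find hex ≠ 0 := fun h => hx (by simpa [h] using Nat.find_spec hex)
    refine ⟨((α - 1) ^ (Nat.find hex - 1) : Module.End ℤ X) x, Nat.find_min hex (by omega), sub_eq_zero.mp ?_⟩
    show (α - 1) (((α - 1) ^ (Nat.find hex - 1) : Module.End ℤ X) x) = 0
    rw [← Module.End.mul_apply, ← pow_succ', show Nat.find hex - 1 + 1 = Nat.find hex by omega]
    exact Nat.find_spec hex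
  obtain ⟨w₀, hw₀, hiso⟩ := exists_string (p := p) (by omega) hXp he α ρ σ hσρ hσN hσfree hρfix hvα
  obtain ⟨⟨w', hw'⟩, rfl⟩ := hπsurj w₀
  -- commutator form
  have hTc : ∀ s ∈ T, ∀ t ∈ T, s * t = t * s := fun s hs t ht => (hWT s (hTW hs) t ht).eq
  let _ : CommGroup ↥T :=
    { (inferInstance : Group ↥T) with mul_comm := fun s t => Subtype.ext (hTc s s.2 t t.2) }
  have hcl : ∀ u ∈ W, ∀ u' ∈ W, ∀ w ∈ W, ⁅u * u', w⁆ = ⁅u, w⁆ * ⁅u', w⁆ := by
    intro u hu u' hu' w hw
    calc ⁅u * u', w⁆ = u * ⁅u', w⁆ * u⁻¹ * ⁅u, w⁆ := by simp only [commutatorElement_def]; group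
      _ = ⁅u', w⁆ * ⁅u, w⁆ := by rw [(hWT u hu _ (hcomm _ hu' _ hw)).eq, mul_inv_cancel_right]
      _ = ⁅u, w⁆ * ⁅u', w⁆ := hTc _ (hcomm _ hu' _ hw) _ (hcomm _ hu _ hw)
  have hcr : ∀ u ∈ W, ∀ w ∈ W, ∀ w' ∈ W, ⁅u, w * w'⁆ = ⁅u, w⁆ * ⁅u, w'⁆ := by
    intro u hu w hw w' hw'
    calc ⁅u, w * w'⁆ = ⁅u, w⁆ * (w * ⁅u, w'⁆ * w⁻¹) := by simp only [commutatorElement_def]; group
      _ = ⁅u, w⁆ * ⁅u, w'⁆ := by rw [(hWT w hw _ (hcomm _ hu _ hw')).eq, mul_inv_cancel_right]
  have hct : ∀ t ∈ T, ∀ w ∈ W, ⁅t, w⁆ = 1 ∧ ⁅w, t⁆ = 1 := fun t ht w hw =>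
    ⟨commutatorElement_eq_one_iff_commute.mpr (hWT w hw t ht).symm,
      commutatorElement_eq_one_iff_commute.mpr (hWT w hw t ht)⟩
  have hclass : ∀ u u' w w' : ↥W, π u = π u' → π w = π w' →
      ⁅(u : G), (w : G)⁆ = ⁅(u' : G), (w' : G)⁆ := by
    intro u u' w w' hu hw
    have eu := (hπeq _ _).mp hu
    have ew := (hπeq _ _).mp hw
    rw [show (u' : G) = u * ((u : G)⁻¹ * u') by group, show (w' : G) = w * ((w : G)⁻¹ * w') by group,
      hcl _ u.2 _ (hTW eu) _ (mul_mem w.2 (hTW ew)), (hct _ eu _ (mul_mem w.2 (hTW ew))).1, mul_one,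
      hcr _ u.2 _ w.2 _ (hTW ew), (hct _ ew _ u.2).2, mul_one]
  have hπsurj' := hπsurj
  choose sec hsec using hπsurj'
  let b : X →+ X →+ Additive ↥T := AddMonoidHom.mk'
    (fun x => AddMonoidHom.mk'
      (fun y => Additive.ofMul ⟨⁅(sec x : G), (sec y : G)⁆, hcomm _ (sec x).2 _ (sec y).2⟩)
      fun y y' => congrArg Additive.ofMul (Subtype.ext (by
        show ⁅(sec x : G), (sec (y + y') : G)⁆ = ⁅(sec x : G), (sec y : G)⁆ * ⁅(sec x : G), (sec y' : G)⁆
        rw [← hcr _ (sec x).2 _ (sec y).2 _ (sec y').2]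
        exact hclass _ _ _ (sec y * sec y') rfl (by rw [hπmul, hsec, hsec, hsec]))))
    fun x x' => AddMonoidHom.ext fun y => congrArg Additive.ofMul (Subtype.ext (by
      show ⁅(sec (x + x') : G), (sec y : G)⁆ = ⁅(sec x : G), (sec y : G)⁆ * ⁅(sec x' : G), (sec y : G)⁆
      rw [← hcl _ (sec x).2 _ (sec x').2 _ (sec y).2]
      exact hclass _ (sec x * sec x') _ _ (by rw [hπmul, hsec, hsec, hsec]) rfl))
  have hb : ∀ k x y, b (ρ k x) (ρ k y) = b x y := fun k => QuotientGroup.induction_on k fun m x y => by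
    obtain ⟨s, hs, hsc, hsq⟩ := exists_rep hQ hMp m m.2
    have hms : ((m : ↥M ⧸ Q.subgroupOf M)) = ((⟨s, hs⟩ : ↥M) : ↥M ⧸ Q.subgroupOf M) :=
      (hmk _ _).mpr hsq
    rw [hms]
    refine congrArg Additive.ofMul (Subtype.ext ?_)
    show ⁅(sec (act _ x) : G), (sec (act _ y) : G)⁆ = ⁅(sec x : G), (sec y : G)⁆
    rw [hclass _ (cW (inclusion hMN ⟨s, hs⟩) (sec x)) _ (cW (inclusion hMN ⟨s, hs⟩) (sec y))
      (by rw [hsec, ← hact, hsec]) (by rw [hsec, ← hact, hsec])]
    show ⁅s * (sec x : G) * s⁻¹, s * (sec y : G) * s⁻¹⁆ = _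
    rw [← conjugate_commutatorElement, (hspT _ (hcomm _ (sec x).2 _ (sec y).2) s hs hsc).eq,
      mul_inv_cancel_right]
  have halt : ∀ x y, b x y + b y x = 0 := fun x y => Additive.toMul.injective (Subtype.ext (by
    show ⁅(sec x : G), (sec y : G)⁆ * ⁅(sec y : G), (sec x : G)⁆ = 1
    rw [← commutatorElement_inv (sec y : G) (sec x : G), inv_mul_cancel]))
  have h2 : ∀ y : Additive ↥T, y + y = 0 → y = 0 := fun y hy => by
    obtain ⟨j, hj⟩ := (hQ.to_le (hTW.trans hWQ) : IsPGroup p ↥T) (Additive.toMul y)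
    have h22 : (Additive.toMul y) ^ 2 = 1 := by rw [pow_two]; exact congrArg Additive.toMul hy
    exact Additive.toMul.injective (orderOf_eq_one_iff.mp (Nat.eq_one_of_dvd_coprimes
      (((Nat.coprime_primes Nat.prime_two hprime).mpr (by omega)).pow_right j)
      (orderOf_dvd_of_pow_eq_one h22) (orderOf_dvd_of_pow_eq_one hj)))
  -- iterated commutators with a
  let d : G → G := comm a
  have hdW : ∀ (j : ℕ) x, x ∈ W → d^[j] x ∈ W := by
    intro j
    induction j with
    | zero => exact fun x hx => hx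
    | succ j ih =>
      intro x hx
      rw [Function.iterate_succ_apply']
      exact mul_mem ((mem_normalizer_iff.mp haW _).mp (ih x hx)) (inv_mem (ih x hx))
  have hπd : ∀ j, π ⟨d^[j] w', hdW j w' hw'⟩ = ((α - 1) ^ j) (π ⟨w', hw'⟩) := by
    intro j
    induction j with
    | zero => rfl
    | succ j ih =>
      rw [pow_succ', Module.End.mul_apply, ← ih, LinearMap.sub_apply, Module.End.one_apply, hαdef, hact,
        sub_eq_add_neg]
      have : (⟨d^[j + 1] w', hdW (j + 1) w' hw'⟩ : ↥W) =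
          cW ⟨a, haNw⟩ ⟨d^[j] w', hdW j w' hw'⟩ * (⟨d^[j] w', hdW j w' hw'⟩ : ↥W)⁻¹ :=
        Subtype.ext (Function.iterate_succ_apply' d j w')
      rw [this]
      rfl
  have horth : ∀ i j, Commute (d^[i] w') (d^[j] w') := by
    intro i j
    have h := hiso b hb halt h2 i j
    rw [← hπd, ← hπd] at h
    have h' : ⁅(sec (π ⟨d^[i] w', hdW i w' hw'⟩) : G), (sec (π ⟨d^[j] w', hdW j w' hw'⟩) : G)⁆ = 1 :=
      congrArg (fun y : Additive ↥T => ((Additive.toMul y : ↥T) : G)) h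
    rw [hclass _ ⟨d^[i] w', hdW i w' hw'⟩ _ ⟨d^[j] w', hdW j w' hw'⟩ (hsec _) (hsec _)] at h'
    exact commutatorElement_eq_one_iff_commute.mp h'
  refine ⟨w', hw', horth, fun H hH => ?_⟩
  set n := p ^ e - (e + 2) with hn
  have hpe := two_add_three_le_pow hp e he
  set U := closure {x | ∃ j, n ≤ j ∧ x = d^[j] w'} with hU
  have hUW : U ≤ W := (closure_le _).mpr (by rintro _ ⟨j, -, rfl⟩; exact hdW j w' hw')
  -- counting
  set D := α - 1 with hDdef
  set y := (D ^ n) (π ⟨w', hw'⟩) with hy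
  have hyM : (D ^ (e + 1)) y = v := by
    rw [hy, ← Module.End.mul_apply, ← pow_add, show e + 1 + n = p ^ e - 1 by omega]; exact hw₀
  have hyM1 : (D ^ (e + 1 + 1)) y = 0 := by
    rw [pow_succ', Module.End.mul_apply, hyM, hDdef, LinearMap.sub_apply, Module.End.one_apply, hvα,
      sub_self]
  haveI : Finite X := Finite.of_surjective π fun x => ⟨sec x, hsec x⟩
  have hstr := card_string (p := p) hXp D (M := e + 1) (by rw [hyM]; exact hv0) hyM1
  set Ub := AddSubgroup.closure (Set.range fun j => (D ^ j) y) with hUb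
  let ψ : Additive ↥U →+ X := AddMonoidHom.mk' (fun u => π (inclusion hUW (Additive.toMul u)))
    fun u u' => by rw [← hπmul]; rfl
  have hψr : Ub ≤ ψ.range := by
    refine (AddSubgroup.closure_le _).mpr ?_
    rintro _ ⟨j, rfl⟩
    refine ⟨Additive.ofMul ⟨d^[j + n] w', subset_closure ⟨j + n, by omega, rfl⟩⟩, ?_⟩
    show π ⟨d^[j + n] w', _⟩ = _
    rw [hπd, hy]
    show _ = (D ^ j) ((D ^ n) _)
    rw [← Module.End.mul_apply, ← pow_add]
  have hψU : ∀ u : Additive ↥U, ψ u ∈ Ub := by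
    have hmem : ∀ g (hg : g ∈ U), π (inclusion hUW ⟨g, hg⟩) ∈ Ub := by
      intro g hg
      induction hg using closure_induction with
      | mem x hx =>
        obtain ⟨j, hj, rfl⟩ := hx
        show π ⟨d^[j] w', _⟩ ∈ Ub
        refine AddSubgroup.subset_closure ⟨j - n, ?_⟩
        show (D ^ (j - n)) y = _
        rw [hπd, hy, ← Module.End.mul_apply, ← pow_add, Nat.sub_add_cancel hj]
      | one => exact zero_mem Ub
      | mul x z hx hz ihx ihz => exact (add_mem ihx ihz : _ ∈ Ub)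
      | inv x hx ih => exact (neg_mem ih : _ ∈ Ub)
    exact fun u => hmem _ (Additive.toMul u).2
  set J : AddSubgroup (Additive ↥U) := Subgroup.toAddSubgroup (H.subgroupOf U) with hJ
  have hJker : J.map ψ ≤ Ub ⊓ D.toAddMonoidHom.ker := by
    rintro _ ⟨u, hu, rfl⟩
    refine ⟨hψU u, ?_⟩
    show D (π (inclusion hUW (Additive.toMul u))) = 0
    rw [hDdef, LinearMap.sub_apply, Module.End.one_apply, hαdef, hact, sub_eq_zero, eq_comm, hπeq]
    show ((Additive.toMul u : ↥U) : G)⁻¹ * (a * (Additive.toMul u : ↥U) * a⁻¹) ∈ T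
    have h1 := hH _ hu (hUW (Additive.toMul u).2)
    have h2 := (mem_normalizer_iff.mp (inv_mem (hMT (hQM (hWQ (hUW (Additive.toMul u).2))))) _).mp h1
    simpa [comm, mul_assoc] using h2
  have hkey : p ^ (e + 1) * Nat.card ↥(H.subgroupOf U) ≤ Nat.card U := by
    have hc1 := AddSubgroup.card_eq_card_quotient_mul_card_addSubgroup ψ.ker
    rw [Nat.card_congr (QuotientAddGroup.quotientKerEquivRange ψ).toEquiv] at hc1
    let ψJ := ψ.comp J.subtype
    have hc2 := AddSubgroup.card_eq_card_quotient_mul_card_addSubgroup ψJ.ker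
    rw [Nat.card_congr (QuotientAddGroup.quotientKerEquivRange ψJ).toEquiv] at hc2
    have hk1 : Nat.card ψJ.ker ≤ Nat.card ψ.ker := Nat.card_le_card_of_injective
      (fun u => (⟨(u : J).1, u.2⟩ : ψ.ker)) fun u u' h => Subtype.ext (Subtype.ext (congrArg Subtype.val h :))
    have hk2 : Nat.card ψJ.range ≤ Nat.card ↥(Ub ⊓ D.toAddMonoidHom.ker) :=
      AddSubgroup.card_le_of_le (by rw [AddMonoidHom.range_comp, AddSubgroup.range_subtype]; exact hJker)
    calc p ^ (e + 1) * Nat.card ↥(H.subgroupOf U)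
        = p ^ (e + 1) * Nat.card ↥J := rfl
      _ ≤ p ^ (e + 1) * (Nat.card ↥(Ub ⊓ D.toAddMonoidHom.ker) * Nat.card ψ.ker) := by
          rw [hc2]; exact Nat.mul_le_mul_left _ (Nat.mul_le_mul hk2 hk1)
      _ ≤ Nat.card ψ.range * Nat.card ψ.ker := by
          rw [← mul_assoc]; exact Nat.mul_le_mul_right _ (hstr.trans (AddSubgroup.card_le_of_le hψr))
      _ = Nat.card U := hc1.symm
  rw [← card_mul_index (H.subgroupOf U), mul_comm (Nat.card ↥(H.subgroupOf U))] at hkey
  exact Nat.le_of_mul_le_mul_right hkey Nat.card_pos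

theorem commute_of_large [Fact p.Prime] (hp : 5 ≤ p) {Q M A : Subgroup G} (hQ : IsPGroup p Q) (hQM : Q ≤ M)
    (hMQ : M ≤ normalizer (Q : Set G)) (hMab : ∀ m ∈ M, ∀ m' ∈ M, ⁅m, m'⁆ ∈ Q)
    (hMp : ∀ m ∈ M, ∃ n : ℕ, n.Coprime p ∧ m ^ n ∈ Q)
    (hAp : IsPGroup p A) (hA : ∀ x ∈ A, ∀ y ∈ A, x * y = y * x) {a : G} (ha : a ∈ A)
    (haM : a ∈ normalizer (M : Set G)) (haQ : a ∈ normalizer (Q : Set G)) {e : ℕ} (he : 1 ≤ e)
    (haN : ∀ m ∈ M, ⁅a ^ (p ^ e), m⁆ ∈ Q) (hfree : ∀ m ∈ M, ⁅a ^ (p ^ (e - 1)), m⁆ ∈ Q → m ∈ Q)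
    (hcard : Nat.card A ≤ p ^ e * Nat.card ↥(A ⊓ Q))
    (hmax : ∀ B : Subgroup G, B ≤ Q → IsMulCommutative B → Nat.card B ≤ Nat.card A) :
    ∀ m ∈ M, (orderOf m).Coprime p → ∀ q ∈ Q, m * q = q * m := by
  classical
  have hprime : p.Prime := Fact.out
  intro m hm hmc q hq
  by_contra hcon
  obtain ⟨W, T, hL⟩ := exists_layer hQ hQM hMQ haM haQ hm hmc hq hcon
  obtain ⟨r, hr⟩ := hAp ⟨a, ha⟩
  obtain ⟨w', hw', horth, hcount⟩ := exists_vector hp hQ hQM hMQ hMab hMp
    (congrArg Subtype.val hr : a ^ p ^ r = 1) haM haQ he haN hfree hL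
  obtain ⟨hWQ, hMW, haW, hMT, haT, hTW, -, hcT, hWT, -, -, -⟩ := hL
  have hTc : ∀ s ∈ T, ∀ t ∈ T, s * t = t * s := fun s hs t ht => (hWT s (hTW hs) t ht).eq
  set A0 := A ⊓ Q with hA0
  let tv : G → G := fun x => x * w' * x⁻¹ * w'⁻¹
  have htv : ∀ x ∈ A0, tv x ∈ T := fun x hx => by
    have : ⁅x, w'⁆ ∈ (⁅W, Q⁆ : Subgroup G) := by
      rw [Subgroup.commutator_comm]; exact commutator_mem_commutator hx.2 hw'
    exact hcT this
  have hxT : ∀ x ∈ A0, ∀ t ∈ T, x * t * x⁻¹ ∈ T := fun x hx t ht =>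
    (mem_normalizer_iff.mp (hMT (hQM hx.2)) t).mp ht
  let d : G → G := comm a
  have hdW : ∀ (j : ℕ) x, x ∈ W → d^[j] x ∈ W := fun j x hx => iterate_comm_mem haW j hx
  have hdT : ∀ (j : ℕ) x, x ∈ T → d^[j] x ∈ T := fun j x hx => iterate_comm_mem haT j hx
  have hxd : ∀ x ∈ A0, ∀ j, x * d^[j] w' * x⁻¹ = d^[j] (tv x) * d^[j] w' := by
    intro x hx j
    induction j with
    | zero => simp [tv]
    | succ j ih =>
      have hxa : x * a = a * x := hA x hx.1 a ha
      rw [Function.iterate_succ_apply', Function.iterate_succ_apply']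
      set t := d^[j] (tv x)
      set u := d^[j] w'
      have htT : t ∈ T := hdT j _ (htv x hx)
      have huW : u ∈ W := hdW j w' hw'
      have hdu : a * u * a⁻¹ * u⁻¹ ∈ W := mul_mem ((mem_normalizer_iff.mp haW _).mp huW) (inv_mem huW)
      calc x * (a * u * a⁻¹ * u⁻¹) * x⁻¹
          = (x * a) * u * (x * a)⁻¹ * (x * u * x⁻¹)⁻¹ := by group
        _ = a * (x * u * x⁻¹) * a⁻¹ * (x * u * x⁻¹)⁻¹ := by rw [hxa]; group
        _ = (a * t * a⁻¹) * ((a * u * a⁻¹ * u⁻¹) * t⁻¹) := by rw [ih]; group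
        _ = d t * d u := by
          rw [((hWT _ hdu t⁻¹ (inv_mem htT))).eq]
          simp only [d, comm]; group
  -- fixed points on T die after e + 1 steps
  set T1 := T ⊓ centralizer (A0 : Set G) with hT1
  have hHab : IsMulCommutative ↥(A0 ⊔ T1) := by
    rw [show A0 ⊔ T1 = closure ((A0 : Set G) ∪ T1) by rw [Subgroup.closure_union, closure_eq, closure_eq]]
    refine isMulCommutative_closure ?_
    rintro x (hx | hx) y (hy | hy)
    · exact hA x hx.1 y hy.1
    · exact mem_centralizer_iff.mp hy.2 x hx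
    · exact (mem_centralizer_iff.mp hx.2 y hy).symm
    · exact hTc x hx.1 y hy.1
  have hHQ1 : A0 ⊔ T1 ≤ Q := sup_le inf_le_right (inf_le_left.trans (hTW.trans hWQ))
  have hT1d : ∀ t ∈ T1, ∀ j, e + 1 ≤ j → d^[j] t = 1 :=
    iterate_comm_eq_one hQ (hAp.to_le (zpowers_le.mpr ha)) haQ hHQ1 hHab (fun x hx => hA a ha x hx.1)
      (mem_normalizer_inf haT (mem_normalizer_centralizer fun y hy => by
        rw [hA a⁻¹ (inv_mem ha) y hy.1, inv_mul_cancel_right]; exact hy))
      ((hmax _ hHQ1 hHab).trans hcard)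
  -- the large abelian subgroup
  set Mt := closure (tv '' (A0 : Set G)) with hMt
  have hMtT : Mt ≤ T := (closure_le _).mpr (by rintro _ ⟨x, hx, rfl⟩; exact htv x hx)
  set A0' := A0 ⊓ centralizer (Mt : Set G) with hA0'
  have hsym : ∀ x ∈ A0, ∀ z ∈ A0, x * tv z * x⁻¹ * tv x = z * tv x * z⁻¹ * tv z := by
    intro x hx z hz
    have hc : x * z = z * x := hA x hx.1 z hz.1
    calc x * tv z * x⁻¹ * tv x = (x * z) * w' * (x * z)⁻¹ * w'⁻¹ := by simp only [tv]; group
      _ = (z * x) * w' * (z * x)⁻¹ * w'⁻¹ := by rw [hc]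
      _ = z * tv x * z⁻¹ * tv z := by simp only [tv]; group
  have hT1mem : ∀ x ∈ A0', tv x ∈ T1 := by
    intro x hx
    refine ⟨htv x hx.1, mem_centralizer_iff.mpr fun z hz => ?_⟩
    have hzM : tv z ∈ Mt := subset_closure ⟨z, hz, rfl⟩
    have h1 := hsym x hx.1 z hz
    rw [(mem_centralizer_iff.mp hx.2 _ hzM).symm, mul_inv_cancel_right,
      hTc _ (htv z hz) _ (htv x hx.1), mul_left_inj] at h1
    exact mul_inv_eq_iff_eq_mul.mp h1.symm
  set H := A0' ⊔ Mt with hHdef
  have hHQ : H ≤ Q := sup_le (inf_le_left.trans inf_le_right) (hMtT.trans (hTW.trans hWQ))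
  have hMtN : A0' ≤ normalizer (Mt : Set G) := fun x hx => centralizer_le_normalizer _ hx.2
  have hcardH : Nat.card A0 ≤ Nat.card H := by
    have h1 : A0'.relIndex A0 ≤ A0'.relIndex Mt := by
      have hmem : ∀ x : ↥A0, tv x ∈ Mt := fun x => subset_closure ⟨x, x.2, rfl⟩
      refine Nat.card_le_card_of_injective (fun q : ↥A0 ⧸ A0'.subgroupOf A0 =>
        ((⟨tv q.out, hmem q.out⟩ : ↥Mt) : ↥Mt ⧸ A0'.subgroupOf Mt)) fun q q' hq => ?_
      rw [← q.out_eq', ← q'.out_eq', QuotientGroup.eq, mem_subgroupOf]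
      have hs := QuotientGroup.eq.mp hq
      rw [mem_subgroupOf] at hs
      set x := q.out
      set y := q'.out
      push_cast at hs ⊢
      have hsA : (tv x)⁻¹ * tv y ∈ A0 := (mem_inf.mp hs).1
      refine mem_inf.mpr ⟨mul_mem (inv_mem x.2) y.2, ?_⟩
      have hle : Mt ≤ centralizer {(x : G)⁻¹ * y} := by
        refine (closure_le _).mpr ?_
        rintro _ ⟨z, hz, rfl⟩
        refine mem_centralizer_singleton_iff.mpr ?_
        have e1 := hsym x x.2 z hz
        have e2 := hsym y y.2 z hz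
        have e3 : tv y = tv x * ((tv x)⁻¹ * tv y) := by group
        have e4 : z * ((tv x)⁻¹ * tv y) = ((tv x)⁻¹ * tv y) * z := hA z hz.1 _ hsA.1
        have hT2 : ∀ (c : ↥A0), (c : G) * tv z * (c : G)⁻¹ ∈ T := fun c => hxT c c.2 _ (htv z hz)
        have key : (y : G) * tv z * (y : G)⁻¹ * tv x = (x : G) * tv z * (x : G)⁻¹ * tv x := by
          have h5 : z * tv y * z⁻¹ = z * tv x * z⁻¹ * ((tv x)⁻¹ * tv y) := by
            conv_lhs => rw [e3]
            calc z * (tv x * ((tv x)⁻¹ * tv y)) * z⁻¹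
                = z * tv x * z⁻¹ * (z * ((tv x)⁻¹ * tv y)) * z⁻¹ := by group
              _ = _ := by rw [e4]; group
          set s := (tv x)⁻¹ * tv y
          have hsT : s ∈ T := mul_mem (inv_mem (htv x x.2)) (htv y y.2)
          rw [h5, e3] at e2
          rw [e1]
          apply mul_right_cancel (b := s)
          rw [mul_assoc _ (tv x) s, e2, mul_assoc (z * tv x * z⁻¹), mul_assoc (z * tv x * z⁻¹),
            hTc s hsT _ (htv z hz)]
        have h6 := mul_right_cancel key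
        calc tv z * ((x : G)⁻¹ * y) = (x : G)⁻¹ * ((x : G) * tv z * (x : G)⁻¹) * y := by group
          _ = (x : G)⁻¹ * y * tv z := by rw [← h6]; group
      exact mem_centralizer_iff.mpr fun z hz => mem_centralizer_singleton_iff.mp (hle hz)
    calc Nat.card A0 = Nat.card A0' * A0'.relIndex A0 :=
          (card_mul_index (A0'.subgroupOf A0)).symm.trans (by
            rw [Nat.card_congr (subgroupOfEquivOfLe (inf_le_left : A0' ≤ A0)).toEquiv]; rfl)
      _ ≤ Nat.card A0' * A0'.relIndex H := Nat.mul_le_mul_left _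
          (h1.trans (Subgroup.relIndex_le_of_le_right le_sup_right index_ne_zero_of_finite))
      _ = Nat.card H := by
          rw [← Nat.card_congr (subgroupOfEquivOfLe (le_sup_left : A0' ≤ H)).toEquiv]
          exact card_mul_index (A0'.subgroupOf H)
  set n := p ^ e - (e + 2) with hn
  have hpe := two_add_three_le_pow hp e he
  set U := closure {x | ∃ j, n ≤ j ∧ x = d^[j] w'} with hU
  have hUW : U ≤ W := (closure_le _).mpr (by rintro _ ⟨j, -, rfl⟩; exact hdW j w' hw')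
  set B := H ⊔ U with hB
  have hBQ : B ≤ Q := sup_le hHQ (hUW.trans hWQ)
  have hfixd : ∀ x ∈ A0', ∀ j, n ≤ j → x * d^[j] w' = d^[j] w' * x := by
    intro x hx j hj
    have h := hxd x hx.1 j
    rw [hT1d _ (hT1mem x hx) j (by omega), one_mul] at h
    exact mul_inv_eq_iff_eq_mul.mp h
  have hBab : IsMulCommutative B := by
    have heq : B = closure (((A0' : Set G) ∪ Mt) ∪ {x | ∃ j, n ≤ j ∧ x = d^[j] w'}) := by
      rw [Subgroup.closure_union, Subgroup.closure_union, closure_eq, closure_eq]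
    rw [heq]
    refine isMulCommutative_closure ?_
    rintro x ((hx | hx) | ⟨i, hi, rfl⟩) y ((hy | hy) | ⟨j, hj, rfl⟩)
    · exact hA x hx.1.1 y hy.1.1
    · exact (mem_centralizer_iff.mp hx.2 y hy).symm
    · exact hfixd x hx j hj
    · exact mem_centralizer_iff.mp hy.2 x hx
    · exact hTc x (hMtT hx) y (hMtT hy)
    · exact (hWT _ (hdW j w' hw') x (hMtT hx)).eq.symm
    · exact (hfixd y hy i hi).symm
    · exact (hWT _ (hdW i w' hw') y (hMtT hy)).eq
    · exact (horth i j).eq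
  have hHd : ∀ g ∈ H, g ∈ W → comm a g ∈ T := by
    intro g hg _
    obtain ⟨x, hx, t, ht, hxt⟩ := (Coprime.mem_sup_iff_of_le_normalizer hMtN).mp hg
    have hat : a * t * a⁻¹ ∈ T := (mem_normalizer_iff.mp haT _).mp (hMtT ht)
    have := (mem_normalizer_iff.mp (hMT (hQM hx.1.2)) _).mp (mul_mem hat (inv_mem (hMtT ht)))
    rw [← hxt]
    convert this using 1
    simp only [comm]
    calc a * (x * t) * a⁻¹ * (x * t)⁻¹ = (a * x) * (t * a⁻¹ * t⁻¹) * x⁻¹ := by group
      _ = _ := by rw [hA a ha x hx.1.1]; group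
  have hrel : p ^ (e + 1) ≤ H.relIndex U := hcount H hHd
  have hBcard : p ^ (e + 1) * Nat.card A0 ≤ Nat.card B := by
    calc p ^ (e + 1) * Nat.card A0 ≤ H.relIndex B * Nat.card H :=
          Nat.mul_le_mul (hrel.trans (Subgroup.relIndex_le_of_le_right le_sup_right index_ne_zero_of_finite))
            hcardH
      _ = Nat.card B := by
          rw [← Nat.card_congr (subgroupOfEquivOfLe (le_sup_left : H ≤ B)).toEquiv, mul_comm]
          exact card_mul_index (H.subgroupOf B)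
  have h1 := hBcard.trans ((hmax B hBQ hBab).trans hcard)
  exact absurd h1 (not_le.mpr (Nat.mul_lt_mul_of_pos_right (Nat.pow_lt_pow_succ hprime.one_lt) Nat.card_pos))

end Cfsg.Agent.LargeAbelian
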