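import Mathlib

/-!
# A string of vectors with trace `v` orthogonal to itself

`X` has exponent `p` (odd), `K` is a finite abelian group of operators on `X` without fixed points, `α`
induces on `K` an automorphism of order dividing `p ^ e` whose `p ^ (e - 1)`-st power fixes only `1`,
`v` is fixed by `α`.

* `sub_one_pow_pred`: `(α - 1) ^ (p ^ e - 1)` is the trace of `⟨α⟩`
* `exists_string`: some `w` has `(α - 1) ^ (p ^ e - 1) w = v`, and all `(α - 1) ^ i w` are pairwise
  orthogonal for every `K`-invariant alternating form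
* `card_string`: the span of such a string against the fixed points of `α`
-/

set_option autoImplicit false

namespace Cfsg.Agent.LargeAbelian

open Polynomial

universe u v

variable {X : Type u} [AddCommGroup X] {p : ℕ}

theorem aeval_aux [Module (ZMod p) X] (f : Module.End ℤ X) (n m : ℕ)
    (h : ((Polynomial.X : (ZMod p)[X]) - 1) ^ n = ∑ i ∈ Finset.range m, Polynomial.X ^ i) :
    (f - 1) ^ n = ∑ i ∈ Finset.range m, f ^ i := by
  let f' : Module.End (ZMod p) X := f.toAddMonoidHom.toZModLinearMap p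
  let ι : Module.End (ZMod p) X →+* Module.End ℤ X :=
    { toFun := fun g => g.toAddMonoidHom.toIntLinearMap
      map_one' := rfl
      map_mul' := fun _ _ => rfl
      map_zero' := rfl
      map_add' := fun _ _ => rfl }
  have hι : ι f' = f := rfl
  have := congrArg ι (congrArg (aeval f') h)
  simpa only [map_pow, map_sub, map_sum, aeval_X, map_one, hι] using this

theorem sub_one_pow_pred [hp : Fact p.Prime] (hX : ∀ x : X, p • x = 0) (f : Module.End ℤ X) (e : ℕ) :
    (f - 1) ^ (p ^ e - 1) = ∑ i ∈ Finset.range (p ^ e), f ^ i := by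
  have h1 : ((Polynomial.X : (ZMod p)[X]) - 1) ^ (p ^ e - 1) = ∑ i ∈ Finset.range (p ^ e), Polynomial.X ^ i := by
    have hne : ((Polynomial.X : (ZMod p)[X]) - 1) ≠ 0 := by
      simpa using X_sub_C_ne_zero (1 : ZMod p)
    refine mul_right_cancel₀ hne ?_
    rw [geom_sum_mul, ← pow_succ, Nat.sub_add_cancel (Nat.one_le_pow _ _ hp.out.pos),
      sub_pow_char_pow, one_pow]
  letI : Module (ZMod p) X := AddCommGroup.zmodModule hX
  exact aeval_aux f _ _ h1

open Classical in
/-- A symmetric function whose sums over the orbits of a fixed point free `τ` are `1` mod `p`. -/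
theorem exists_weight {K : Type v} [CommGroup K] [Finite K] [hp : Fact p.Prime] (hp2 : p ≠ 2) {e : ℕ}
    (he : 1 ≤ e) (τ : MulAut K) (hN : ∀ k, (⇑τ)^[p ^ e] k = k)
    (hfree : ∀ k, (⇑τ)^[p ^ (e - 1)] k = k → k = 1) :
    ∃ c : K → ℤ, (∀ k, c k⁻¹ = c k) ∧
      ∀ k, (p : ℤ) ∣ (∑ i ∈ Finset.range (p ^ e), c ((⇑τ)^[i] k)) - (if k = 1 then 0 else 1) := by
  classical
  let f : K → ℕ := fun k => (Finite.equivFin K k : ℕ)
  have hf : Function.Injective f := fun a b h => (Finite.equivFin K).injective (Fin.ext h)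
  have h1 : ∀ n, (⇑τ)^[n] (1 : K) = 1 := fun n => Function.iterate_fixed (map_one τ) n
  have hinj : ∀ k, k ≠ 1 → Set.InjOn (fun i => (⇑τ)^[i] k) (Set.Iio (p ^ e)) := by
    intro k hk
    have hper : Function.minimalPeriod (⇑τ) k = p ^ e := by
      obtain ⟨j, hj, hje⟩ := (Nat.dvd_prime_pow hp.out).mp
        (Function.IsPeriodicPt.minimalPeriod_dvd (show Function.IsPeriodicPt (⇑τ) (p ^ e) k from hN k))
      rcases eq_or_lt_of_le hj with rfl | hlt
      · exact hje
      · refine absurd (hfree k ?_) hk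
        obtain ⟨m, hm⟩ := (pow_dvd_pow p (show j ≤ e - 1 by omega))
        rw [hm, ← hje]
        exact ((Function.isPeriodicPt_minimalPeriod (⇑τ) k).mul_const m)
    rw [← hper]
    exact Function.iterate_injOn_Iio_minimalPeriod
  let R : K → Prop := fun k => k ≠ 1 ∧ ∀ i, f k ≤ f ((⇑τ)^[i] k)
  have hne : ∀ k, k ≠ 1 → ∀ n, (⇑τ)^[n] k ≠ 1 := fun k hk n h =>
    hk ((τ.injective.iterate n) (h.trans (h1 n).symm))
  have hmod : ∀ k n, (⇑τ)^[n % p ^ e] k = (⇑τ)^[n] k := by
    intro k n
    have hq : ∀ q, (⇑τ)^[p ^ e * q] k = k := by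
      intro q
      induction q with
      | zero => rfl
      | succ q ih => rw [Nat.mul_succ, Function.iterate_add_apply, hN, ih]
    conv_rhs => rw [← Nat.mod_add_div n (p ^ e), Function.iterate_add_apply, hq]
  have hsum : ∀ k, (∑ i ∈ Finset.range (p ^ e), if R ((⇑τ)^[i] k) then (1 : ℤ) else 0) =
      if k = 1 then 0 else 1 := by
    intro k
    split_ifs with hk
    · subst hk
      exact Finset.sum_eq_zero fun i _ => if_neg fun h => h.1 (h1 i)
    · obtain ⟨i0, hi0, hmin⟩ := Finset.exists_min_image (Finset.range (p ^ e))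
        (fun i => f ((⇑τ)^[i] k)) ⟨0, Finset.mem_range.mpr (pow_pos hp.out.pos e)⟩
      have hR : R ((⇑τ)^[i0] k) := by
        refine ⟨hne k hk i0, fun j => ?_⟩
        rw [← Function.iterate_add_apply, ← hmod k (j + i0)]
        exact hmin _ (Finset.mem_range.mpr (Nat.mod_lt _ (pow_pos hp.out.pos e)))
      rw [Finset.sum_eq_single i0 (fun i hi hii => if_neg fun hRi => hii ?_)
        (fun h => absurd hi0 h), if_pos hR]
      refine hinj k hk (Finset.mem_range.mp hi) (Finset.mem_range.mp hi0) (hf (le_antisymm ?_ (hmin i hi)))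
      have := hRi.2 (p ^ e - i + i0)
      rwa [← Function.iterate_add_apply, show p ^ e - i + i0 + i = i0 + p ^ e by
        have := Finset.mem_range.mp hi; omega, Function.iterate_add_apply, hN] at this
  obtain ⟨m, hm⟩ := hp.out.odd_of_ne_two hp2
  refine ⟨fun k => ((m + 1 : ℕ) : ℤ) * ((if R k then 1 else 0) + if R k⁻¹ then 1 else 0),
    fun k => by simp [add_comm], fun k => ⟨if k = 1 then 0 else 1, ?_⟩⟩
  have hinv : ∀ i, ((⇑τ)^[i] k)⁻¹ = (⇑τ)^[i] k⁻¹ := fun i => (Function.Semiconj.iterate_right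
    (f := fun y : K => y⁻¹) (fun y => (map_inv τ y).symm) i k)
  simp only [← Finset.mul_sum, Finset.sum_add_distrib, hinv, hsum, inv_eq_one, Nat.cast_add,
    Nat.cast_one]
  rw [hm]
  push_cast
  split_ifs <;> ring

variable {K : Type v} [CommGroup K] [Finite K]

/-- The orthogonal string. -/
theorem exists_string [hp : Fact p.Prime] (hp2 : p ≠ 2) (hX : ∀ x : X, p • x = 0) {e : ℕ} (he : 1 ≤ e)
    (α : Module.End ℤ X) (ρ : K →* Module.End ℤ X) (σ : MulAut K)
    (hσ : ∀ k, α * ρ k = ρ (σ k) * α) (hN : ∀ k, (⇑σ)^[p ^ e] k = k)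
    (hfree : ∀ k, (⇑σ)^[p ^ (e - 1)] k = k → k = 1) (hfix : ∀ x : X, (∀ k, ρ k x = x) → x = 0)
    {v : X} (hv : α v = v) :
    ∃ w : X, ((α - 1) ^ (p ^ e - 1) : Module.End ℤ X) w = v ∧
      ∀ {Y : Type u} [AddCommGroup Y] (b : X →+ X →+ Y), (∀ k x y, b (ρ k x) (ρ k y) = b x y) →
        (∀ x y, b x y + b y x = 0) → (∀ y : Y, y + y = 0 → y = 0) →
        ∀ i j, b (((α - 1) ^ i : Module.End ℤ X) w) (((α - 1) ^ j : Module.End ℤ X) w) = 0 := by
  classical
  haveI := Fintype.ofFinite K
  have hN' : ∀ k, (⇑σ.symm)^[p ^ e] k = k := fun k => by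
    conv_lhs => rw [← hN k]
    exact (Function.LeftInverse.iterate σ.symm_apply_apply _) k
  obtain ⟨c, hc1, hc2⟩ := exists_weight (p := p) hp2 he σ.symm hN' (fun k hk => hfree k (by
    conv_lhs => rw [← hk]
    exact (Function.LeftInverse.iterate σ.apply_symm_apply _) k))
  let Φ : (K → ℤ) → X := fun d => ∑ k, d k • ρ k v
  have hα : ∀ d : K → ℤ, α (Φ d) = Φ (d ∘ σ.symm) := by
    intro d
    simp only [Φ, map_sum, map_zsmul, Function.comp_apply]
    refine Fintype.sum_equiv σ.toEquiv _ _ fun k => ?_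
    rw [← Module.End.mul_apply, hσ, Module.End.mul_apply, hv]
    simp
  have hpow : ∀ (i : ℕ) (d : K → ℤ), (α ^ i) (Φ d) = Φ (d ∘ (⇑σ.symm)^[i]) := by
    intro i
    induction i with
    | zero => exact fun d => rfl
    | succ i ih =>
      intro d
      rw [pow_succ', Module.End.mul_apply, ih, hα, Function.iterate_succ, Function.comp_assoc]
  refine ⟨-(Φ c), ?_, fun {Y} _ b hb halt h2 i j => ?_⟩
  · rw [sub_one_pow_pred hX, map_neg, LinearMap.sum_apply, Finset.sum_congr rfl fun i _ => hpow i c]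
    simp only [Φ, Function.comp_apply]
    rw [Finset.sum_comm]
    simp only [← Finset.sum_smul]
    have key : ∀ k : K, (∑ i ∈ Finset.range (p ^ e), c ((⇑σ.symm)^[i] k)) • ρ k v =
        if k = 1 then 0 else ρ k v := by
      intro k
      obtain ⟨q, hq⟩ := hc2 k
      rw [eq_add_of_sub_eq hq, add_smul, mul_comm, mul_smul, natCast_zsmul, hX, smul_zero, zero_add]
      split_ifs <;> simp
    rw [Finset.sum_congr rfl fun k _ => key k]
    have hall : ∑ k : K, ρ k v = 0 := hfix _ fun l => by
      rw [map_sum]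
      exact Fintype.sum_equiv (Equiv.mulLeft l) _ _ fun k => by simp [map_mul]
    rw [← Finset.add_sum_erase _ _ (Finset.mem_univ (1 : K)), if_pos rfl, zero_add,
      Finset.sum_congr rfl fun k hk => if_neg (Finset.ne_of_mem_erase hk)]
    rw [← Finset.add_sum_erase _ _ (Finset.mem_univ (1 : K)), map_one, Module.End.one_apply] at hall
    exact neg_eq_of_add_eq_zero_left hall
  · have hsym : ∀ i, ∃ d : K → ℤ, (∀ k, d k⁻¹ = d k) ∧ ((α - 1) ^ i : Module.End ℤ X) (Φ c) = Φ d := by
      intro i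
      induction i with
      | zero => exact ⟨c, hc1, rfl⟩
      | succ i ih =>
        obtain ⟨d, hd, e'⟩ := ih
        refine ⟨fun k => d (σ.symm k) - d k, fun k => by simp [map_inv, hd], ?_⟩
        rw [pow_succ', Module.End.mul_apply, e', LinearMap.sub_apply, Module.End.one_apply, hα]
        simp only [Φ, Function.comp_apply, sub_smul, Finset.sum_sub_distrib]
    obtain ⟨d, hd, ed⟩ := hsym i
    obtain ⟨d', hd', ed'⟩ := hsym j
    simp only [map_neg, ed, ed', AddMonoidHom.neg_apply, neg_neg]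
    have hsw : b (Φ d) (Φ d') = b (Φ d') (Φ d) := by
      simp only [Φ, map_sum, map_zsmul, AddMonoidHom.finsetSum_apply, AddMonoidHom.coe_smul,
        Pi.smul_apply, Finset.smul_sum]
      rw [Finset.sum_comm]
      refine Fintype.sum_equiv (Equiv.inv K) _ _ fun k => ?_
      refine Fintype.sum_equiv (Equiv.inv K) _ _ fun l => ?_
      simp only [Equiv.inv_apply, hd, hd']
      rw [smul_comm, ← hb (k * l) (ρ l⁻¹ v) (ρ k⁻¹ v)]
      simp only [← Module.End.mul_apply, ← map_mul, mul_inv_cancel_right, mul_inv_cancel_comm]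
    refine h2 _ ?_
    conv_lhs => arg 2; rw [hsw]
    exact halt _ _

theorem pow_succ_le_card_string [Finite X] [hp : Fact p.Prime] (hX : ∀ x : X, p • x = 0)
    (D : Module.End ℤ X) : ∀ (M : ℕ) (y : X), (D ^ M) y ≠ 0 → (D ^ (M + 1)) y = 0 →
      p ^ (M + 1) ≤ Nat.card ↥(AddSubgroup.closure (Set.range fun j => (D ^ j) y)) := by
  intro M
  induction M with
  | zero =>
    intro y hy _
    rw [zero_add, pow_one, ← addOrderOf_eq_prime (hX y) (by simpa using hy), ← Nat.card_zmultiples]
    exact AddSubgroup.card_le_of_le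
      ((AddSubgroup.zmultiples_le).mpr (AddSubgroup.subset_closure ⟨0, rfl⟩))
  | succ M ih =>
    intro y hy hy0
    set U := AddSubgroup.closure (Set.range fun j => (D ^ j) y)
    set U' := AddSubgroup.closure (Set.range fun j => (D ^ j) (D y))
    have hshift : ∀ j, (D ^ j) (D y) = (D ^ (j + 1)) y := fun j => by
      rw [pow_succ, Module.End.mul_apply]
    have h0 := ih (D y) (by rwa [hshift]) (by rwa [hshift])
    have hU'U : U' ≤ U := by
      refine (AddSubgroup.closure_le _).mpr ?_
      rintro _ ⟨j, rfl⟩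
      exact AddSubgroup.subset_closure ⟨j + 1, (hshift j).symm⟩
    have hkill : U' ≤ (D ^ (M + 1)).toAddMonoidHom.ker := by
      refine (AddSubgroup.closure_le _).mpr ?_
      rintro _ ⟨j, rfl⟩
      show (D ^ (M + 1)) ((D ^ j) (D y)) = 0
      rw [hshift, ← Module.End.mul_apply, ← pow_add, show M + 1 + (j + 1) = j + (M + 1 + 1) by omega,
        pow_add, Module.End.mul_apply, hy0, map_zero]
    have hmem : y ∈ U := AddSubgroup.subset_closure ⟨0, rfl⟩
    have hord : addOrderOf ((D ^ (M + 1)) y) = p := addOrderOf_eq_prime (hX _) hy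
    calc p ^ (M + 1 + 1) = p * p ^ (M + 1) := pow_succ' _ _
      _ ≤ p * Nat.card U' := Nat.mul_le_mul_left _ h0
      _ = Nat.card (Fin p × U') := by rw [Nat.card_prod, Nat.card_fin]
      _ ≤ Nat.card U := by
        refine Nat.card_le_card_of_injective
          (fun q => (⟨(q.1 : ℕ) • y + (q.2 : X), add_mem (nsmul_mem hmem _) (hU'U q.2.2)⟩ : U))
          fun q r h => ?_
        have h' : (q.1 : ℕ) • y + (q.2 : X) = (r.1 : ℕ) • y + (r.2 : X) := congrArg Subtype.val h
        have h'' := congrArg (D ^ (M + 1)) h'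
        rw [map_add, map_add, map_nsmul, map_nsmul, show (D ^ (M + 1)) (q.2 : X) = 0 from hkill q.2.2,
          show (D ^ (M + 1)) (r.2 : X) = 0 from hkill r.2.2, add_zero, add_zero,
          nsmul_eq_nsmul_iff_modEq, hord, Nat.ModEq, Nat.mod_eq_of_lt q.1.2,
          Nat.mod_eq_of_lt r.1.2] at h''
        have he : q.1 = r.1 := Fin.ext h''
        exact Prod.ext he (Subtype.ext (by rw [he] at h'; exact add_left_cancel h'))

/-- The span of a string: `p ^ M` times larger than its fixed part. -/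
theorem card_string [Finite X] [hp : Fact p.Prime] (hX : ∀ x : X, p • x = 0) (D : Module.End ℤ X)
    {M : ℕ} {y : X} (hy : (D ^ M) y ≠ 0) (hy0 : (D ^ (M + 1)) y = 0) :
    p ^ M * Nat.card ↥(AddSubgroup.closure (Set.range fun j => (D ^ j) y) ⊓ D.toAddMonoidHom.ker) ≤
      Nat.card ↥(AddSubgroup.closure (Set.range fun j => (D ^ j) y)) := by
  set U := AddSubgroup.closure (Set.range fun j => (D ^ j) y)
  rcases M with _ | M
  · rw [pow_zero, one_mul]; exact AddSubgroup.card_le_of_le inf_le_left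
  let g : U →+ X := D.toAddMonoidHom.comp U.subtype
  have hrange : g.range = AddSubgroup.closure (Set.range fun j => (D ^ j) (D y)) := by
    rw [AddMonoidHom.range_comp, AddSubgroup.range_subtype, AddMonoidHom.map_closure, ← Set.range_comp]
    congr 1
    congr 1
    funext j
    show D ((D ^ j) y) = (D ^ j) (D y)
    rw [← Module.End.mul_apply, ← Module.End.mul_apply, ← pow_succ', pow_succ]
  have hk : Nat.card g.ker = Nat.card ↥(U ⊓ D.toAddMonoidHom.ker) :=
    Nat.card_congr ((Equiv.subtypeSubtypeEquivSubtypeInter (fun x => x ∈ U) fun x => D x = 0))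
  have hc := AddSubgroup.card_eq_card_quotient_mul_card_addSubgroup g.ker
  rw [Nat.card_congr (QuotientAddGroup.quotientKerEquivRange g).toEquiv, hk] at hc
  rw [hc]
  refine Nat.mul_le_mul_right _ ?_
  rw [hrange]
  exact pow_succ_le_card_string hX D M (D y) (by rwa [← Module.End.mul_apply, ← pow_succ])
    (by rwa [← Module.End.mul_apply, ← pow_succ])

end Cfsg.Agent.LargeAbelian

namespace Cfsg.Agent.LargeAbelian

/-- In a `p`-group `V` with `|V| ≤ p ^ e |F|`, `D F = 0`: a `D`-nilpotent vector lands in `F` after `e` steps. -/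
theorem iterate_mem_of_card_le {X : Type*} [AddCommGroup X] [Finite X] {p : ℕ} [hp : Fact p.Prime]
    (hX : ∃ r, Nat.card X = p ^ r) (D : Module.End ℤ X) (F : AddSubgroup X) (hF : ∀ f ∈ F, D f = 0)
    {e : ℕ} (hcard : Nat.card X ≤ p ^ e * Nat.card F) {y : X} (hy : ∃ m, (D ^ m) y = 0) :
    (D ^ e) y ∈ F := by
  classical
  have hex : ∃ m, (D ^ m) y ∈ F := hy.imp fun m hm => by rw [hm]; exact zero_mem F
  set m := Nat.find hex with hm
  have hge : ∀ k, m ≤ k → (D ^ k) y ∈ F := by
    intro k hk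
    induction hk with
    | refl => exact Nat.find_spec hex
    | step _ ih => rw [pow_succ', Module.End.mul_apply, hF _ ih]; exact zero_mem F
  refine hge e ?_
  by_contra hlt
  let L : ℕ → AddSubgroup X := fun i => F ⊔ AddSubgroup.closure {z | ∃ j, i ≤ j ∧ z = (D ^ j) y}
  have hgrow : ∀ i, i < m → p * Nat.card (L (i + 1)) ≤ Nat.card (L i) := by
    intro i hi
    have hle : L (i + 1) ≤ L i := by
      refine sup_le_sup_left ((AddSubgroup.closure_le _).mpr ?_) F
      rintro z ⟨j, hj, rfl⟩
      exact AddSubgroup.subset_closure ⟨j, by omega, rfl⟩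
    have hnm : (D ^ i) y ∉ L (i + 1) := by
      intro hc
      have hk : L (i + 1) ≤ AddSubgroup.comap (D ^ (m - 1 - i)).toAddMonoidHom F := by
        refine sup_le (fun f hf => ?_) ((AddSubgroup.closure_le _).mpr ?_)
        · show (D ^ (m - 1 - i)) f ∈ F
          rcases m - 1 - i with _ | k
          · exact hf
          · rw [pow_succ, Module.End.mul_apply, hF f hf, map_zero]; exact zero_mem F
        · rintro _ ⟨j, hj, rfl⟩
          show (D ^ (m - 1 - i)) ((D ^ j) y) ∈ F
          rw [← Module.End.mul_apply, ← pow_add]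
          exact hge _ (by omega)
      have h1 : (D ^ (m - 1 - i)) ((D ^ i) y) ∈ F := hk hc
      rw [← Module.End.mul_apply, ← pow_add, Nat.sub_add_cancel (by omega)] at h1
      exact Nat.find_min hex (by omega) h1
    obtain ⟨r, hr⟩ := hX
    obtain ⟨k, -, hk⟩ := (Nat.dvd_prime_pow hp.out).mp (hr ▸ (L (i + 1)).card_addSubgroup_dvd_card)
    obtain ⟨k', -, hk'⟩ := (Nat.dvd_prime_pow hp.out).mp (hr ▸ (L i).card_addSubgroup_dvd_card)
    have hlt : Nat.card (L (i + 1)) < Nat.card (L i) := by
      refine Set.ncard_lt_ncard (s := (L (i + 1) : Set X)) ⟨hle, fun h => hnm (h ?_)⟩ (Set.toFinite _)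
      exact AddSubgroup.mem_sup_right (AddSubgroup.subset_closure ⟨i, le_rfl, rfl⟩)
    rw [hk, hk'] at hlt ⊢
    rw [← pow_succ']
    exact Nat.pow_le_pow_right hp.out.pos ((Nat.pow_lt_pow_iff_right hp.out.one_lt).mp hlt)
  have key : ∀ j, j ≤ e + 1 → p ^ j * Nat.card F ≤ Nat.card (L (e + 1 - j)) := by
    intro j
    induction j with
    | zero =>
      intro _
      rw [pow_zero, one_mul]
      exact AddSubgroup.card_le_of_le le_sup_left
    | succ j ih =>
      intro hj
      refine le_trans ?_ (hgrow (e + 1 - (j + 1)) (by omega))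
      rw [show e + 1 - (j + 1) + 1 = e + 1 - j by omega, pow_succ', mul_assoc]
      exact Nat.mul_le_mul_left _ (ih (by omega))
  have h1 := (key (e + 1) le_rfl).trans ((AddSubgroup.card_le_card_addGroup _).trans hcard)
  have h2 : p ^ e < p ^ (e + 1) := Nat.pow_lt_pow_succ hp.out.one_lt
  exact absurd h1 (not_le.mpr (Nat.mul_lt_mul_of_pos_right h2 Nat.card_pos))

end Cfsg.Agent.LargeAbelian
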